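/-
Six by six matrices over the field with four elements as tuples.
-/
import Cfsg.Agent.Lib.G24.Field
import Cfsg.Agent.Lib.UnitarySimple

set_option autoImplicit false
set_option maxHeartbeats 1000000
set_option synthInstance.maxSize 4000
set_option synthInstance.maxHeartbeats 400000

namespace CfsgLib.SUSixSub

open Matrix CfsgLib.G24

/-- A row. -/
abbrev R6 := K × K × K × K × K × K

/-- A matrix by rows. -/
abbrev M6 := R6 × R6 × R6 × R6 × R6 × R6

/-- The square, which is the conjugate. -/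
def cjK : K → K
  | .o => .o
  | .i => .i
  | .w => .v
  | .v => .w

/-- Equality of elements. -/
def beqK : K → K → Bool
  | .o, .o => true
  | .i, .i => true
  | .w, .w => true
  | .v, .v => true
  | _, _ => false

/-- An entry of a six-tuple. -/
def get {α : Type} : α × α × α × α × α × α → Fin 6 → α
  | t, ⟨0, _⟩ => t.1
  | t, ⟨1, _⟩ => t.2.1
  | t, ⟨2, _⟩ => t.2.2.1
  | t, ⟨3, _⟩ => t.2.2.2.1
  | t, ⟨4, _⟩ => t.2.2.2.2.1
  | t, ⟨_, _⟩ => t.2.2.2.2.2

/-- A six-tuple of values. -/
def mk {α : Type} (f : Fin 6 → α) : α × α × α × α × α × α := (f 0, f 1, f 2, f 3, f 4, f 5)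

theorem get_mk {α : Type} (f : Fin 6 → α) : ∀ i, get (mk f) i = f i
  | ⟨0, _⟩ => rfl
  | ⟨1, _⟩ => rfl
  | ⟨2, _⟩ => rfl
  | ⟨3, _⟩ => rfl
  | ⟨4, _⟩ => rfl
  | ⟨5, _⟩ => rfl

/-- The vector of a row. -/
def rowV (u : R6) : Fin 6 → K := get u

/-- The matrix. -/
def mat6 (A : M6) : Matrix (Fin 6) (Fin 6) K := fun i k => get (get A i) k

/-- The matrix of a function. -/
def ofF (f : Fin 6 → Fin 6 → K) : M6 := mk fun i => mk fun k => f i k

theorem mat6_ofF (f : Fin 6 → Fin 6 → K) (i k : Fin 6) : mat6 (ofF f) i k = f i k := by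
  rw [mat6, ofF, get_mk, get_mk]

def dot (f g : Fin 6 → K) : K :=
  K.addK (K.addK (K.addK (K.addK (K.addK (K.mulK (f 0) (g 0)) (K.mulK (f 1) (g 1))) (K.mulK (f 2) (g 2)))
    (K.mulK (f 3) (g 3))) (K.mulK (f 4) (g 4))) (K.mulK (f 5) (g 5))

def tr (A : M6) : M6 := ofF fun i k => mat6 A k i

def mulM (A B : M6) : M6 := ofF fun i k => dot (mat6 A i) fun j => mat6 B j k

def mulV (A : M6) (v : R6) : R6 := mk fun i => dot (mat6 A i) (rowV v)

def cjM (A : M6) : M6 := ofF fun i k => cjK (mat6 A i k)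

def oneM : M6 := ofF fun i k => if i = k then .i else .o

def smR (c : K) (u : R6) : R6 := mk fun i => K.mulK c (rowV u i)

/-- Equality of rows. -/
def beqR (u v : R6) : Bool := (List.finRange 6).all fun i => beqK (rowV u i) (rowV v i)

/-- Equality of matrices. -/
def beqM (A B : M6) : Bool := (List.finRange 6).all fun i => (List.finRange 6).all fun k => beqK (mat6 A i k) (mat6 B i k)

/-- The element of a digit. -/
def kOf (n : ℕ) : K := bif Nat.beq n 0 then .o else bif Nat.beq n 1 then .i else bif Nat.beq n 2 then .w else .v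

/-- The matrix of a number. -/
def ofN (n : ℕ) : M6 := ofF fun i k => kOf ((n >>> (12 * (i : ℕ) + 2 * (k : ℕ))) % 4)

/-- The row of a number. -/
def rowN (n : ℕ) : R6 := mk fun k => kOf ((n >>> (2 * (k : ℕ))) % 4)

/-- The six by six determinant by the first row. -/
def detR : (n : ℕ) → (Fin n → Fin n → K) → K
  | 0, _ => .i
  | n + 1, A => (List.finRange (n + 1)).foldl
      (fun s j => K.addK s (K.mulK (A 0 j) (detR n fun i k => A i.succ (j.succAbove k)))) .o

theorem addK_eq (a b : K) : K.addK a b = a + b := rfl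

theorem mulK_eq (a b : K) : K.mulK a b = a * b := rfl

theorem cjK_eq : ∀ a : K, cjK a = a ^ 2 := by decide

theorem beqK_eq : ∀ a b : K, beqK a b = true → a = b := by decide

theorem dot_eq (f g : Fin 6 → K) : dot f g = f ⬝ᵥ g := by
  simp [dot, dotProduct, Fin.sum_univ_six, addK_eq, mulK_eq]

theorem mat6_tr (A : M6) : mat6 (tr A) = (mat6 A)ᵀ := by
  ext i k
  rw [tr, mat6_ofF, Matrix.transpose_apply]

theorem mulV_eq (A : M6) (v : R6) : rowV (mulV A v) = mat6 A *ᵥ rowV v := by
  funext i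
  rw [mulV, rowV, get_mk, dot_eq]
  rfl

theorem mat6_mul (A B : M6) : mat6 (mulM A B) = mat6 A * mat6 B := by
  ext i k
  rw [mulM, mat6_ofF, dot_eq]
  rfl

theorem mat6_one : mat6 oneM = 1 := by
  ext i k
  rw [oneM, mat6_ofF, Matrix.one_apply]
  rfl

theorem mat6_cj (A : M6) : mat6 (cjM A) = (mat6 A).map (· ^ 2) := by
  ext i k
  rw [cjM, mat6_ofF, cjK_eq, Matrix.map_apply]

theorem rowV_smR (c : K) (u : R6) : rowV (smR c u) = c • rowV u := by
  funext i
  rw [smR, rowV, get_mk]
  rfl

theorem of_beqR {u v : R6} (h : beqR u v = true) : rowV u = rowV v := by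
  funext i
  exact beqK_eq _ _ (List.all_eq_true.mp h i (List.mem_finRange i))

theorem of_beqM {A B : M6} (h : beqM A B = true) : mat6 A = mat6 B := by
  ext i k
  exact beqK_eq _ _ (List.all_eq_true.mp (List.all_eq_true.mp h i (List.mem_finRange i)) k (List.mem_finRange k))

theorem detR_eq : ∀ (n : ℕ) (A : Matrix (Fin n) (Fin n) K), detR n A = A.det := by
  intro n
  induction n with
  | zero => intro A; rw [Matrix.det_fin_zero]; rfl
  | succ n ih =>
    intro A
    rw [Matrix.det_succ_row_zero, Fin.sum_univ_def]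
    have key : ∀ (f : Fin (n + 1) → K) (L : List (Fin (n + 1))) (s : K),
        L.foldl (fun s j => K.addK s (f j)) s = s + (L.map f).sum := by
      intro f L
      induction L with
      | nil => intro s; simp
      | cons x L ih2 =>
        intro s
        rw [List.foldl_cons, ih2, List.map_cons, List.sum_cons, addK_eq, add_assoc]
    show (List.finRange (n + 1)).foldl
      (fun s j => K.addK s (K.mulK (A 0 j) (detR n fun i k => A i.succ (j.succAbove k)))) (0 : K) = _
    rw [key (fun j => K.mulK (A 0 j) (detR n fun i k => A i.succ (j.succAbove k))), zero_add]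
    congr 1
    refine List.map_congr_left fun j _ => ?_
    have hs : ((-1 : K) ^ (j : ℕ)) = 1 := by
      rw [show (-1 : K) = 1 from rfl, one_pow]
    rw [hs, one_mul, mulK_eq, ← ih]
    rfl

/-- A code of a matrix of determinant one preserving the form. -/
def okM (A : M6) : Bool :=
  beqM (mulM (tr A) (cjM A)) oneM && beqK (detR 6 fun i k => mat6 A i k) .i

theorem preserves {A : Matrix (Fin 6) (Fin 6) K} (h : Aᵀ * A.map (· ^ 2) = 1) (u v : Fin 6 → K) :
    Cfsg.hermForm 6 K 2 (A *ᵥ u) (A *ᵥ v) = Cfsg.hermForm 6 K 2 u v := by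
  haveI : Fact (Nat.Prime 2) := ⟨Nat.prime_two⟩
  haveI : CharP K 2 := charP_of_card_eq_prime_pow (f := 2) (by rw [K.card_eq]; norm_num)
  have hform : ∀ a b : Fin 6 → K, Cfsg.hermForm 6 K 2 a b = a ⬝ᵥ (frobenius K 2 ∘ b) := fun a b => rfl
  rw [hform, hform]
  have h2 : frobenius K 2 ∘ (A *ᵥ v) = A.map (frobenius K 2) *ᵥ (frobenius K 2 ∘ v) := by
    funext i
    exact (frobenius K 2).map_mulVec _ v i
  rw [h2, Matrix.dotProduct_mulVec, ← Matrix.mulVec_transpose, Matrix.mulVec_mulVec]
  have h3 : (A.map (frobenius K 2))ᵀ * A = 1 := by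
    have := congrArg Matrix.transpose h
    rw [Matrix.transpose_mul, Matrix.transpose_transpose, Matrix.transpose_one] at this
    exact this
  rw [h3, Matrix.one_mulVec]

/-- The group. -/
abbrev Γ : Type := ↥(Cfsg.SU 6 K 2)

/-- The matrix of an element. -/
def gm (g : Γ) : Matrix (Fin 6) (Fin 6) K := CfsgLib.UnitarySimple.mat g

theorem gm_mul (g k : Γ) : gm (g * k) = gm g * gm k := rfl

theorem gm_one : gm 1 = 1 := rfl

theorem gm_inj {g k : Γ} (h : gm g = gm k) : g = k := Subtype.ext (Subtype.ext h)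

theorem exists_elem {A : M6} (h : okM A = true) : ∃ g : Γ, gm g = mat6 A := by
  simp only [okM, Bool.and_eq_true] at h
  have hd : (mat6 A).det = 1 := by rw [← detR_eq]; exact beqK_eq _ _ h.2
  have hu : (mat6 A)ᵀ * (mat6 A).map (· ^ 2) = 1 := by
    rw [← mat6_tr, ← mat6_cj, ← mat6_mul, of_beqM h.1, mat6_one]
  exact ⟨⟨⟨mat6 A, hd⟩, fun u v => preserves hu u v⟩, rfl⟩

/-- The element of a code. -/
noncomputable def el (A : M6) : Γ := if h : okM A = true then (exists_elem h).choose else 1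

theorem gm_el {A : M6} (h : okM A = true) : gm (el A) = mat6 A := by
  rw [el, dif_pos h]; exact (exists_elem h).choose_spec

theorem unitary (g : Γ) : (gm g)ᵀ * (gm g).map (· ^ 2) = 1 := by
  ext i j
  have h := g.2 (Pi.single i 1) (Pi.single j 1)
  have hcol : ∀ i k, (Cfsg.slToMat 6 K g.1 *ᵥ Pi.single i 1) k = g.1.1 k i := fun i k => by
    rw [Matrix.mulVec_single_one]; rfl
  simp only [Cfsg.hermForm, hcol] at h
  simp only [gm, CfsgLib.UnitarySimple.mat, Matrix.mul_apply, Matrix.transpose_apply, Matrix.map_apply, h]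
  rw [Matrix.one_apply]
  rcases eq_or_ne i j with rfl | hij
  · rw [if_pos rfl, Finset.sum_eq_single i (fun k _ hk => by simp [hk]) (by simp)]
    simp
  · rw [if_neg hij]
    exact Finset.sum_eq_zero fun k _ => by
      rcases eq_or_ne k i with rfl | hk
      · simp [hij]
      · simp [hk]

/-- A list of codes of group elements. -/
def okL (L : List ℕ) : Bool := L.all fun n => okM (ofN n)

/-- The element of a number. -/
noncomputable def elN (n : ℕ) : Γ := el (ofN n)

theorem gm_elN {n : ℕ} (h : okM (ofN n) = true) : gm (elN n) = mat6 (ofN n) := gm_el h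

/-- A number of the identity. -/
def oneN : ℕ := 1 + 2 ^ 14 + 2 ^ 28 + 2 ^ 42 + 2 ^ 56 + 2 ^ 70

theorem mat6_oneN : mat6 (ofN oneN) = 1 := by
  rw [← mat6_one]
  exact of_beqM (by decide +kernel)

/-- Each step multiplies the value before by a listed generator. -/
def chainOK (L : List ℕ) : ℕ → List (ℕ × ℕ) → Bool
  | _, [] => true
  | p, (j, q) :: w => Nat.blt j L.length && beqM (mulM (ofN (L.getD j 0)) (ofN p)) (ofN q) && chainOK L q w

/-- The last value. -/
def lastV : ℕ → List (ℕ × ℕ) → ℕ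
  | p, [] => p
  | _, (_, q) :: w => lastV q w

/-- A word ending at a code. -/
def wordOK (L : List ℕ) (w : List (ℕ × ℕ)) (n : ℕ) : Bool := chainOK L oneN w && Nat.beq (lastV oneN w) n

theorem mem_of_wordOK {H : Subgroup Γ} {L : List ℕ} (hok : okL L = true) (hL : ∀ a ∈ L, elN a ∈ H) {n : ℕ}
    (hn : okM (ofN n) = true) {w : List (ℕ × ℕ)} (hw : wordOK L w n = true) : elN n ∈ H := by
  have key : ∀ (w : List (ℕ × ℕ)) (p : ℕ), chainOK L p w = true → (∃ g ∈ H, gm g = mat6 (ofN p)) →
      ∃ g ∈ H, gm g = mat6 (ofN (lastV p w)) := by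
    intro w
    induction w with
    | nil => exact fun p _ hp => hp
    | cons s w ih =>
      obtain ⟨j, q⟩ := s
      intro p hc hp
      simp only [chainOK, Bool.and_eq_true, Nat.blt_eq] at hc
      obtain ⟨⟨hj, hm⟩, hc⟩ := hc
      obtain ⟨g, hg, e⟩ := hp
      have hmem : L[j] ∈ L := List.getElem_mem hj
      refine ih q hc ⟨elN L[j] * g, mul_mem (hL _ hmem) hg, ?_⟩
      rw [← of_beqM hm, mat6_mul, gm_mul, e, gm_elN (List.all_eq_true.mp hok _ hmem), List.getD_eq_getElem _ _ hj]
  simp only [wordOK, Bool.and_eq_true] at hw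
  obtain ⟨g, hg, e⟩ := key w oneN hw.1 ⟨1, one_mem H, by rw [mat6_oneN, gm_one]⟩
  rw [Nat.eq_of_beq_eq_true hw.2] at e
  rwa [gm_inj ((gm_elN hn).trans e.symm)]

end CfsgLib.SUSixSub
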