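/-
Kernel checks on the codes of the subgroups 3.U4(3) of SU6(2).
-/
import Cfsg.Agent.Lib.SUSixSub.Codes
import Cfsg.Agent.Lib.SUSixSub.Data
import Cfsg.Agent.Lib.U43Mult.CoverChecks

set_option autoImplicit false
set_option maxRecDepth 30000
set_option maxHeartbeats 4000000

namespace CfsgLib.SUSixSub

open CfsgLib.G24

/-- At most one non-zero entry in each row. -/
def monoB (A : M6) : Bool := (List.finRange 6).all fun i => (List.finRange 6).all fun k => (List.finRange 6).all fun l =>
  Nat.beq k.val l.val || beqK (mat6 A i k) .o || beqK (mat6 A i l) .o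

/-- The codes with a target. -/
def targets : List ℕ := gensC ++ [tauN]

theorem okA : okL gensA = true ∧ gensA.length = 2 := by decide +kernel

theorem okMC : okL gensM = true ∧ gensM.length = 5 ∧ okL targets = true ∧ gensC.length = 3 := by decide +kernel

theorem okCands : okL (cands.map fun x => x.1) = true ∧ cands.length = 30 := by decide +kernel

theorem okReps : okL frameReps = true ∧ frameReps.length = 112 := by decide +kernel

theorem monM : (gensM.all fun a => monoB (ofN a) &&
    beqM (mulM (ofN a) (mulM (ofN a) (ofN a))) oneM) = true := by decide +kernel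

theorem monT : monoB (ofN tauN) = true ∧ monoB (ofN (gensC.getD 0 0)) = false ∧
    beqM (mulM (ofN tauN) (ofN tauN)) oneM = true := by decide +kernel

theorem wordC_ok : wordOK gensA wordC (gensC.getD 0 0) = true := by decide +kernel

theorem wordsA_ok : ((List.range 2).all fun j =>
    wordOK (gensM ++ [gensC.getD 0 0]) (wordsA.getD j []) (gensA.getD j 0)) = true := by decide +kernel

theorem cands_ok : (cands.all fun x =>
    Nat.blt x.2.1 4 && wordOK (gensM ++ [x.1]) x.2.2 (targets.getD x.2.1 0)) = true := by decide +kernel

theorem wordsT_ok : ((List.range 3).all fun i =>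
    let t := wordsT.getD i (0, [])
    okM (ofN t.1) && beqM (mulM (ofN tauN) (mulM (ofN (gensC.getD i 0)) (ofN tauN))) (ofN t.1) &&
      wordOK (gensM ++ [gensC.getD i 0]) t.2 t.1) = true := by decide +kernel

theorem wordsCC_ok : ((List.range 3).all fun j => (List.range j).all fun i => wordsCC.any fun x =>
    Nat.beq x.1 i && Nat.beq x.2.1 j && wordOK (gensM ++ [gensC.getD i 0, gensC.getD j 0]) x.2.2 tauN) = true := by
  decide +kernel

/-- The phase of a label. -/
def ph (s : ℕ) : K := kOf (s + 1)

/-- The vector of a point. -/
def vecA (a : ℕ) : R6 := rowN (vecs.getD a 0)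

theorem move_ok : ((List.range 2).all fun j => (List.range 126).all fun a =>
    beqR (mulV (ofN (gensA.getD j 0)) (vecA a))
      (smR (ph (U43Mult.coverB.lab j a)) (vecA (U43Mult.coverB.act j a)))) = true := by
  decide +kernel

theorem vecs_ok : ((List.range 126).all fun a => (List.range 3).all fun s => (List.range 126).all fun b =>
    (Nat.beq a b && Nat.beq s 0) || !beqR (vecA b) (smR (ph s) (vecA a))) = true := by decide +kernel

/-- The matrix of the independent points. -/
def basisM : M6 := ofF fun i k => rowV (vecA (basisA.getD k.val 0)) i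

theorem basis_ok : beqM (mulM (ofN basisInv) basisM) oneM = true ∧
    ((List.range 6).all fun k => Nat.blt (basisA.getD k 0) 126) = true := by decide +kernel

/-- The objects through a point. -/
def keyAt (t : ℕ) : ℕ :=
  (List.range 126).foldr (fun i x => (bif (U43Mult.coverB.mask i).testBit t then 2 ^ i else 0) + x) 0

theorem keys_val : ((List.range 280).all fun t => Nat.beq (keyAt t) (maskKeys.getD t 0)) = true := by decide +kernel

theorem keys_inc : ((List.range 280).all fun k => Nat.blt (maskOrd.getD k 0) 280 && (Nat.ble 280 (k + 1) ||
    Nat.blt (maskKeys.getD (maskOrd.getD k 0) 0) (maskKeys.getD (maskOrd.getD (k + 1) 0) 0))) = true := by decide +kernel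

/-- The representative of a frame. -/
def repM (k : ℕ) : M6 := ofN (frameReps.getD k 0)

theorem frames_tree : ((List.range 112).all fun k =>
    (Nat.beq k 0 && beqM (repM k) oneM) || (Nat.blt (framePar.getD k (0, 0)).1 k && Nat.blt (framePar.getD k (0, 0)).2 2 &&
      beqM (repM k) (mulM (ofN (gensA.getD (framePar.getD k (0, 0)).2 0)) (repM (framePar.getD k (0, 0)).1)))) = true := by
  decide +kernel

theorem frames_distinct : ((List.range 112).all fun k => (List.range k).all fun l =>
    !monoB (mulM (tr (cjM (repM l))) (repM k))) = true := by decide +kernel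

theorem frames_closed : ((List.range 2).all fun j => (List.range 112).all fun k =>
    let l := bif Nat.beq j 0 then (frameNext.getD k (0, 0)).1 else (frameNext.getD k (0, 0)).2
    Nat.blt l 112 && monoB (mulM (tr (cjM (repM l))) (mulM (ofN (gensA.getD j 0)) (repM k)))) = true := by
  decide +kernel

end CfsgLib.SUSixSub
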