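/-
The monomial subgroup of SU6(2) and a Sylow three-subgroup inside it.
-/
import Cfsg.Agent.Lib.SUSixSub.Codes

set_option autoImplicit false
set_option maxHeartbeats 800000
set_option linter.style.haveILetI false

namespace CfsgLib.SUSixSub

open Matrix CfsgLib.G24 Equiv

/-- A monomial matrix. -/
def monoF (d : Fin 6 → K) (p : Perm (Fin 6)) : Matrix (Fin 6) (Fin 6) K := fun i k => if i = p k then d i else 0

theorem monoF_mul (d e : Fin 6 → K) (p q : Perm (Fin 6)) :
    monoF d p * monoF e q = monoF (fun i => d i * e (p.symm i)) (p * q) := by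
  ext i k
  rw [Matrix.mul_apply, Finset.sum_eq_single (q k)]
  · simp only [monoF, if_true]
    by_cases h : i = p (q k)
    · rw [if_pos h, if_pos (show i = (p * q) k from h), show p.symm i = q k by rw [h, Equiv.symm_apply_apply]]
    · rw [if_neg h, if_neg (show ¬i = (p * q) k from h), zero_mul]
  · intro j _ hj
    simp [monoF, hj]
  · simp

theorem monoF_one : monoF 1 1 = 1 := by
  ext i k
  by_cases h : i = k <;> simp [monoF, h, Matrix.one_apply]

theorem monoF_diag (d : Fin 6 → K) : monoF d 1 = Matrix.diagonal d := by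
  ext i k
  by_cases h : i = k <;> simp [monoF, h]

theorem cube_one : ∀ a : K, a ≠ 0 → a * a ^ 2 = 1 := by decide

theorem monoF_det (d : Fin 6 → K) (p : Perm (Fin 6)) : (monoF d p).det = ∏ i, d i := by
  have h : monoF d p = Matrix.diagonal d * (p⁻¹ : Perm (Fin 6)).permMatrix K := by
    ext i k
    rw [Matrix.diagonal_mul]
    simp only [monoF, Equiv.Perm.permMatrix, PEquiv.toMatrix_apply, Equiv.toPEquiv_apply, Option.mem_def,
      Option.some.injEq, Perm.inv_def, Equiv.symm_apply_eq]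
    split_ifs <;> simp
  rw [h, Matrix.det_mul, Matrix.det_diagonal, Matrix.det_permutation]
  have hs : ((Perm.sign (p⁻¹ : Perm (Fin 6)) : ℤ) : K) = 1 := by
    rcases Int.units_eq_one_or (Perm.sign (p⁻¹ : Perm (Fin 6))) with e | e <;> rw [e] <;> rfl
  rw [hs, mul_one]

theorem monoF_unitary {d : Fin 6 → K} (hd : ∀ i, d i ≠ 0) (p : Perm (Fin 6)) :
    (monoF d p)ᵀ * (monoF d p).map (· ^ 2) = 1 := by
  ext k l
  rw [Matrix.mul_apply, Finset.sum_eq_single (p k)]
  · simp only [Matrix.transpose_apply, Matrix.map_apply, monoF, if_true, Matrix.one_apply]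
    by_cases h : k = l
    · subst h; rw [if_pos rfl, if_pos rfl]; exact cube_one _ (hd _)
    · rw [if_neg h, if_neg (fun e => h (p.injective e))]; simp
  · intro i _ hi
    simp [monoF, hi]
  · simp

theorem exists_mono {d : Fin 6 → K} (hd : ∏ i, d i = 1) (p : Perm (Fin 6)) : ∃ g : Γ, gm g = monoF d p := by
  have hne : ∀ i, d i ≠ 0 := fun i h => by
    rw [Finset.prod_eq_zero (Finset.mem_univ i) h] at hd
    exact zero_ne_one hd
  exact ⟨⟨⟨monoF d p, (monoF_det d p).trans hd⟩, fun u v => preserves (monoF_unitary hne p) u v⟩, rfl⟩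

theorem mono_facts {g : Γ} {d : Fin 6 → K} {p : Perm (Fin 6)} (h : gm g = monoF d p) :
    (∏ i, d i = 1) ∧ ∀ i, d i ≠ 0 := by
  have hd : ∏ i, d i = 1 := by rw [← monoF_det d p, ← h]; exact g.1.2
  exact ⟨hd, fun i hi => zero_ne_one ((Finset.prod_eq_zero (Finset.mem_univ i) hi).symm.trans hd)⟩

theorem monoF_inj {d e : Fin 6 → K} {p q : Perm (Fin 6)} (hd : ∀ i, d i ≠ 0) (h : monoF d p = monoF e q) :
    d = e ∧ p = q := by
  have hp : p = q := Equiv.ext fun k => by
    have := congrFun (congrFun h (p k)) k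
    simp only [monoF, if_true] at this
    by_contra hne
    rw [if_neg hne] at this
    exact hd _ this
  subst hp
  refine ⟨funext fun i => ?_, rfl⟩
  have := congrFun (congrFun h i) (p.symm i)
  simpa [monoF] using this

/-- Closure under inverses in a finite group. -/
theorem inv_mem_of_mul {G : Type*} [Group G] [Finite G] {S : Set G} (h1 : (1 : G) ∈ S)
    (hm : ∀ a b, a ∈ S → b ∈ S → a * b ∈ S) {g : G} (hg : g ∈ S) : g⁻¹ ∈ S := by
  rw [show g⁻¹ = g ^ (orderOf g - 1) from by
    rw [inv_eq_iff_mul_eq_one, ← pow_succ', Nat.sub_add_cancel (orderOf_pos g), pow_orderOf_eq_one]]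
  generalize orderOf g - 1 = e
  induction e with
  | zero => rw [pow_zero]; exact h1
  | succ e ih => rw [pow_succ]; exact hm _ _ ih hg

/-- The monomial elements over a group of permutations. -/
def monoSub (A : Subgroup (Perm (Fin 6))) : Subgroup Γ where
  carrier := {g | ∃ d p, p ∈ A ∧ gm g = monoF d p}
  one_mem' := ⟨1, 1, one_mem A, by rw [gm_one, monoF_one]⟩
  mul_mem' := by
    rintro g k ⟨d, p, hp, e⟩ ⟨d', q, hq, e'⟩
    exact ⟨_, p * q, mul_mem hp hq, by rw [gm_mul, e, e', monoF_mul]⟩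
  inv_mem' := by
    intro g hg
    refine inv_mem_of_mul (S := {g : Γ | ∃ d p, p ∈ A ∧ gm g = monoF d p}) ⟨1, 1, one_mem A, by rw [gm_one, monoF_one]⟩
      ?_ hg
    rintro g k ⟨d, p, hp, e⟩ ⟨d', q, hq, e'⟩
    exact ⟨_, p * q, mul_mem hp hq, by rw [gm_mul, e, e', monoF_mul]⟩

theorem mem_monoSub {A : Subgroup (Perm (Fin 6))} {g : Γ} :
    g ∈ monoSub A ↔ ∃ d p, p ∈ A ∧ gm g = monoF d p := Iff.rfl

/-- The monomial subgroup. -/
def Nm : Subgroup Γ := monoSub ⊤

/-- The diagonal subgroup. -/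
def Dg : Subgroup Γ := monoSub ⊥

theorem monoSub_mono {A B : Subgroup (Perm (Fin 6))} (h : A ≤ B) : monoSub A ≤ monoSub B :=
  fun _ ⟨d, p, hp, e⟩ => ⟨d, p, h hp, e⟩

theorem Dg_le (A : Subgroup (Perm (Fin 6))) : Dg ≤ monoSub A := monoSub_mono bot_le

theorem monoSub_le (A : Subgroup (Perm (Fin 6))) : monoSub A ≤ Nm := monoSub_mono le_top

theorem mem_Dg {g : Γ} : g ∈ Dg ↔ ∃ d, gm g = Matrix.diagonal d :=
  ⟨fun ⟨d, p, hp, e⟩ => ⟨d, by rw [e, Subgroup.mem_bot.mp hp, monoF_diag]⟩,
    fun ⟨d, e⟩ => ⟨d, 1, one_mem _, by rw [e, monoF_diag]⟩⟩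

/-- The powers of a generator. -/
def wp (a : Fin 3) : K := if a = 0 then .i else if a = 1 then .w else .v

theorem wp_add : ∀ a b : Fin 3, wp (a + b) = wp a * wp b := by decide

theorem wp_inj : ∀ a b : Fin 3, wp a = wp b → a = b := by decide

theorem wp_surj : ∀ c : K, c ≠ 0 → ∃ a : Fin 3, wp a = c := by decide

/-- Six exponents from five. -/
def l6 (l : Fin 5 → Fin 3) : Fin 6 → Fin 3 := Fin.snoc l (-(l 0 + l 1 + l 2 + l 3 + l 4))

theorem l6_prod (l : Fin 5 → Fin 3) : ∏ i, wp (l6 l i) = 1 := by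
  rw [Fin.prod_univ_six]
  simp only [← wp_add]
  have h : ∀ a b c d e : Fin 3, wp (a + b + c + d + e + -(a + b + c + d + e)) = 1 := by decide
  exact h _ _ _ _ _

theorem exists_l6 {d : Fin 6 → K} (hd : ∏ i, d i = 1) : ∃ l, ∀ i, d i = wp (l6 l i) := by
  have hne : ∀ i, d i ≠ 0 := fun i h => by
    rw [Finset.prod_eq_zero (Finset.mem_univ i) h] at hd
    exact zero_ne_one hd
  choose a ha using fun i => wp_surj (d i) (hne i)
  refine ⟨fun i => a i.castSucc, fun i => ?_⟩
  rw [Fin.prod_univ_six, ← ha, ← ha, ← ha, ← ha, ← ha, ← ha] at hd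
  simp only [← wp_add] at hd
  have h : ∀ a b c d e f : Fin 3, wp (a + b + c + d + e + f) = 1 → f = -(a + b + c + d + e) := by decide
  have h5 := h _ _ _ _ _ _ hd
  fin_cases i
  · exact (ha 0).symm
  · exact (ha 1).symm
  · exact (ha 2).symm
  · exact (ha 3).symm
  · exact (ha 4).symm
  · show d 5 = wp (-(a 0 + a 1 + a 2 + a 3 + a 4))
    rw [← h5, ha]

theorem l6_inj {l l' : Fin 5 → Fin 3} (h : ∀ i, wp (l6 l i) = wp (l6 l' i)) : l = l' :=
  funext fun i => by simpa [l6] using wp_inj _ _ (h i.castSucc)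

/-- A monomial element from exponents. -/
noncomputable def monoEl (l : Fin 5 → Fin 3) (p : Perm (Fin 6)) : Γ := (exists_mono (l6_prod l) p).choose

theorem gm_monoEl (l : Fin 5 → Fin 3) (p : Perm (Fin 6)) : gm (monoEl l p) = monoF (fun i => wp (l6 l i)) p :=
  (exists_mono (l6_prod l) p).choose_spec

theorem exists_monoEl {A : Subgroup (Perm (Fin 6))} {g : Γ} (hg : g ∈ monoSub A) :
    ∃ l p, p ∈ A ∧ g = monoEl l p := by
  obtain ⟨d, p, hp, e⟩ := hg
  obtain ⟨l, hl⟩ := exists_l6 (mono_facts e).1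
  exact ⟨l, p, hp, gm_inj (by rw [gm_monoEl, e, funext hl])⟩

theorem monoEl_mem {A : Subgroup (Perm (Fin 6))} {p : Perm (Fin 6)} (hp : p ∈ A) (l : Fin 5 → Fin 3) :
    monoEl l p ∈ monoSub A := ⟨_, p, hp, gm_monoEl l p⟩

theorem monoEl_inj {l l' : Fin 5 → Fin 3} {p q : Perm (Fin 6)} (h : monoEl l p = monoEl l' q) : l = l' ∧ p = q := by
  have e : monoF (fun i => wp (l6 l i)) p = monoF (fun i => wp (l6 l' i)) q := by
    rw [← gm_monoEl, ← gm_monoEl, h]
  obtain ⟨h1, h2⟩ := monoF_inj (mono_facts (gm_monoEl l p)).2 e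
  exact ⟨l6_inj fun i => congrFun h1 i, h2⟩

theorem card_monoSub (A : Subgroup (Perm (Fin 6))) : Nat.card (monoSub A) = 243 * Nat.card A := by
  have hb : Function.Bijective fun x : (Fin 5 → Fin 3) × A => (⟨monoEl x.1 x.2, monoEl_mem x.2.2 x.1⟩ : monoSub A) := by
    refine ⟨fun x y h => ?_, fun g => ?_⟩
    · obtain ⟨h1, h2⟩ := monoEl_inj (Subtype.ext_iff.mp h : monoEl x.1 x.2 = monoEl y.1 y.2)
      exact Prod.ext h1 (Subtype.ext h2)
    · obtain ⟨l, p, hp, e⟩ := exists_monoEl g.2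
      exact ⟨(l, ⟨p, hp⟩), Subtype.ext e.symm⟩
  rw [← Nat.card_congr (Equiv.ofBijective _ hb), Nat.card_prod, Nat.card_eq_fintype_card, Fintype.card_fun,
    Fintype.card_fin, Fintype.card_fin]
  norm_num

theorem card_Dg : Nat.card Dg = 243 := by
  rw [Dg, card_monoSub, Subgroup.card_bot]

theorem card_Nm : Nat.card Nm = 174960 := by
  rw [Nm, card_monoSub, Subgroup.card_top, Nat.card_perm, Nat.card_fin]
  rfl

/-- A matrix with at most one entry in each row is monomial. -/
theorem mem_Nm_of_rows {g : Γ} (h : ∀ i k l, gm g i k ≠ 0 → gm g i l ≠ 0 → k = l) : g ∈ Nm := by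
  have hu := unitary g
  have hrow : (gm g).map (· ^ 2) * (gm g)ᵀ = 1 := mul_eq_one_comm.mp hu
  have hex : ∀ i, ∃ k, gm g i k ≠ 0 := fun i => by
    by_contra hn
    push Not at hn
    have hd : (gm g).det = 0 := Matrix.det_eq_zero_of_row_eq_zero i hn
    exact zero_ne_one (hd.symm.trans g.1.2)
  choose f hf using hex
  have hinj : Function.Injective f := by
    intro i j e
    by_contra hne
    have h0 := congrFun (congrFun hrow i) j
    rw [Matrix.mul_apply, Matrix.one_apply_ne hne, Finset.sum_eq_single (f i)] at h0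
    · simp only [Matrix.map_apply, Matrix.transpose_apply] at h0
      rcases mul_eq_zero.mp h0 with h1 | h1
      · exact hf i (eq_zero_of_pow_eq_zero h1)
      · exact hf j (e ▸ h1)
    · intro k _ hk
      by_cases hz : gm g i k = 0
      · simp [hz]
      · exact absurd (h i k (f i) hz (hf i)) hk
    · simp
  let q : Perm (Fin 6) := Equiv.ofBijective f hinj.bijective_of_finite
  refine ⟨fun i => gm g i (f i), q.symm, Subgroup.mem_top _, ?_⟩
  ext i k
  simp only [monoF]
  by_cases hk : i = q.symm k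
  · rw [if_pos hk, show f i = k by rw [hk]; exact q.apply_symm_apply k]
  · rw [if_neg hk]
    by_contra hz
    exact hk (q.eq_symm_apply.mpr (h i (f i) k (hf i) hz))

theorem diag_comm {g : Γ} {d e : Fin 6 → K} (h : gm g * Matrix.diagonal d = Matrix.diagonal e * gm g) (i k : Fin 6) :
    gm g i k * d k = e i * gm g i k := by
  have := congrFun (congrFun h i) k
  rwa [Matrix.mul_diagonal, Matrix.diagonal_mul] at this

theorem sep_l6 : ∀ k l : Fin 6, k ≠ l → ∃ u : Fin 5, l6 (Pi.single u 1) k ≠ l6 (Pi.single u 1) l := by decide +kernel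

/-- Only monomial elements normalise the diagonal subgroup. -/
theorem normaliser_Dg {g : Γ} (h : ∀ x ∈ Dg, g * x * g⁻¹ ∈ Dg) : g ∈ Nm := by
  refine mem_Nm_of_rows fun i k l hk hl => ?_
  by_contra hne
  obtain ⟨u, hu⟩ := sep_l6 k l hne
  have hx : monoEl (Pi.single u 1) 1 ∈ Dg := monoEl_mem (one_mem _) _
  obtain ⟨e, he⟩ := mem_Dg.mp (h _ hx)
  have heq : gm g * Matrix.diagonal (fun j => wp (l6 (Pi.single u 1) j)) = Matrix.diagonal e * gm g := by
    rw [← he, ← monoF_diag, ← gm_monoEl, ← gm_mul, ← gm_mul, inv_mul_cancel_right]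
  have h1 := diag_comm heq i k
  have h2 := diag_comm heq i l
  rw [mul_comm (e i)] at h1 h2
  exact hu (wp_inj _ _ ((mul_left_cancel₀ hk h1).trans (mul_left_cancel₀ hl h2).symm))

/-- The permutations inside the two blocks. -/
def a9 : Multiplicative (ZMod 3 × ZMod 3) →* Perm (Fin 6) where
  toFun x := c[(0 : Fin 6), 1, 2] ^ (x.toAdd.1.val) * c[(3 : Fin 6), 4, 5] ^ (x.toAdd.2.val)
  map_one' := by decide +kernel
  map_mul' := by decide +kernel

/-- The Sylow three-subgroup. -/
def P0 : Subgroup Γ := monoSub a9.range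

theorem card_P0 : Nat.card P0 = 2187 := by
  rw [P0, card_monoSub]
  have hinj : Function.Injective a9 := by
    have h : ∀ x y : Multiplicative (ZMod 3 × ZMod 3), a9 x = a9 y → x = y := by decide +kernel
    exact fun x y => h x y
  rw [← Nat.card_congr (MonoidHom.ofInjective hinj).toEquiv, Nat.card_congr Multiplicative.toAdd, Nat.card_prod,
    Nat.card_zmod]

/-- The exponent vectors whose commutator with a permutation is scalar. -/
def wOK (p : Perm (Fin 6)) (l : Fin 5 → Fin 3) : Bool :=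
  (List.finRange 3).any fun c => (List.finRange 6).all fun i => l6 l i == c + l6 l (p i)

theorem wOK_bound : ∀ x : Multiplicative (ZMod 3 × ZMod 3), x ≠ 1 →
    (Finset.univ.filter fun l : Fin 5 → Fin 3 => wOK (a9 x) l = true).card ≤ 27 := by decide +kernel

theorem wOK_two : (Finset.univ.filter fun l : Fin 5 → Fin 3 =>
    wOK c[(0 : Fin 6), 1, 2] l = true ∧ wOK c[(3 : Fin 6), 4, 5] l = true).card ≤ 9 := by decide +kernel

theorem wOK_shape : ∀ l : Fin 5 → Fin 3, wOK c[(0 : Fin 6), 1, 2] l = true → wOK c[(3 : Fin 6), 4, 5] l = true →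
    ∀ i : Fin 6, l6 l i = if (i : ℕ) < 3 then l6 l 0 else l6 l 5 := by decide +kernel

theorem wOK_of_comm {g : Γ} {d : Fin 6 → K} {p : Perm (Fin 6)} (hg : gm g = monoF d p) {l : Fin 5 → Fin 3} {c : K}
    (h : gm (g * monoEl l 1) = c • gm (monoEl l 1 * g)) : wOK p l = true := by
  have hd := (mono_facts hg).2
  rw [gm_mul, gm_mul, hg, gm_monoEl, monoF_diag] at h
  have key : ∀ k, wp (l6 l k) = c * wp (l6 l (p k)) := fun k => by
    have := congrFun (congrFun h (p k)) k
    rw [Matrix.smul_apply, Matrix.mul_diagonal, Matrix.diagonal_mul, smul_eq_mul] at this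
    simp only [monoF, if_true] at this
    exact mul_left_cancel₀ (hd (p k)) (this.trans (by ring))
  have hc : c ≠ 0 := fun hc => by
    have := key 0
    rw [hc, zero_mul] at this
    revert this
    generalize l6 l 0 = a
    revert a
    decide
  obtain ⟨a, rfl⟩ := wp_surj c hc
  simp only [wOK, List.any_eq_true, List.all_eq_true, beq_iff_eq]
  exact ⟨a, List.mem_finRange a, fun i _ => wp_inj _ _ ((key i).trans (wp_add _ _).symm)⟩

end CfsgLib.SUSixSub
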