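/-
A subgroup of SU6(2) isomorphic to a triple cover of PSU4(3), and its frame stabiliser.
-/
import Cfsg.Agent.Lib.SUSixSub.Mono
import Cfsg.Agent.Lib.SUSixSub.Checks
import Cfsg.Agent.Lib.U43Mult.Group

set_option autoImplicit false
set_option maxRecDepth 30000
set_option maxHeartbeats 1000000
set_option linter.style.haveILetI false

namespace CfsgLib.SUSixSub

open Matrix CfsgLib.G24 Equiv Subgroup
open CfsgLib.StemSylow

attribute [local irreducible] U43Mult.coverB U43Mult.chain U43Mult.gens gensA gensC gensM vecs maskKeys maskOrd frameReps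

abbrev SmallU := U43Mult.SmallU

theorem coverB_q : U43Mult.coverB.q = 3 := by with_unfolding_all rfl

theorem coverB_m : U43Mult.coverB.m = 126 := by with_unfolding_all rfl

abbrev PtsB := LabelCover.Pts U43Mult.coverB

/-- The cover. -/
abbrev CB := LabelCover.Cover U43Mult.coverB_ok U43Mult.small_valid

/-- The vector of a labelled point. -/
def W (x : PtsB) : Fin 6 → K := ph x.2.val • rowV (vecA x.1.val)

theorem ph_add : ∀ s t : Fin 3, ph ((s.val + t.val) % 3) = ph s.val * ph t.val := by decide +kernel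

theorem ph_ne : ∀ s : Fin 3, ph s.val ≠ 0 := by decide +kernel

theorem ph_mul_exists : ∀ s t : Fin 3, ∃ u : Fin 3, ph s.val = ph u.val * ph t.val ∧ (u.val = 0 → s = t) := by decide +kernel

theorem val_lt (s : ZMod U43Mult.coverB.q) : s.val < 3 := by
  haveI : NeZero U43Mult.coverB.q := ⟨by rw [coverB_q]; norm_num⟩
  exact (ZMod.val_lt s).trans_le coverB_q.le

theorem W_injective : Function.Injective W := by
  rintro ⟨a, s⟩ ⟨b, t⟩ h
  haveI : NeZero U43Mult.coverB.q := ⟨by rw [coverB_q]; norm_num⟩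
  have ha : a.val < 126 := a.2.trans_le coverB_m.le
  have hb : b.val < 126 := b.2.trans_le coverB_m.le
  obtain ⟨u', hu2, hu0'⟩ := ph_mul_exists ⟨s.val, val_lt s⟩ ⟨t.val, val_lt t⟩
  simp only [W] at h
  have key : rowV (vecA b.val) = rowV (smR (ph u'.val) (vecA a.val)) := by
    rw [rowV_smR]
    refine smul_right_injective _ (ph_ne ⟨t.val, val_lt t⟩) ?_
    show ph t.val • rowV (vecA b.val) = ph t.val • (ph u'.val • rowV (vecA a.val))
    rw [← h, smul_smul, mul_comm, ← (show ph s.val = ph u'.val * ph t.val from hu2)]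
  have hc := List.all_eq_true.mp (List.all_eq_true.mp (List.all_eq_true.mp vecs_ok a.val (List.mem_range.mpr ha))
    u'.val (List.mem_range.mpr u'.2)) b.val (List.mem_range.mpr hb)
  have hbeq : beqR (vecA b.val) (smR (ph u'.val) (vecA a.val)) = true := by
    simp only [beqR, List.all_eq_true]
    intro i _
    rw [congrFun key i]
    have : ∀ c : K, beqK c c = true := by decide
    exact this _
  rw [hbeq] at hc
  simp only [Bool.not_true, Bool.or_false, Bool.and_eq_true] at hc
  exact Prod.ext (Fin.ext (Nat.eq_of_beq_eq_true hc.1))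
    (ZMod.val_injective _ (congrArg Fin.val (hu0' (Nat.eq_of_beq_eq_true hc.2))))

theorem basisM_inv : ∃ B : Matrix (Fin 6) (Fin 6) K, mat6 basisM * B = 1 :=
  ⟨mat6 (ofN basisInv), mul_eq_one_comm.mp (by rw [← mat6_mul, of_beqM basis_ok.1, mat6_one])⟩

/-- A matrix is determined on the vectors of the points. -/
theorem eq_smul_of_W {A : Matrix (Fin 6) (Fin 6) K} {c : K}
    (h : ∀ x : PtsB, x.2 = 0 → A *ᵥ W x = c • W x) : A = c • 1 := by
  obtain ⟨B, hB⟩ := basisM_inv
  haveI : NeZero U43Mult.coverB.q := ⟨by rw [coverB_q]; norm_num⟩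
  have h1 : A * mat6 basisM = c • mat6 basisM := by
    ext i k
    have hk := List.all_eq_true.mp basis_ok.2 k.val (List.mem_range.mpr k.2)
    rw [Nat.blt_eq] at hk
    have := congrFun (h (⟨basisA.getD k.val 0, hk.trans_le coverB_m.symm.le⟩, 0) rfl) i
    have hcol : ∀ j, mat6 basisM j k = rowV (vecA (basisA.getD k.val 0)) j := fun j => by rw [basisM, mat6_ofF]
    simp only [W, ZMod.val_zero, Matrix.mulVec, dotProduct, Pi.smul_apply, smul_eq_mul] at this
    rw [show ph 0 = (1 : K) from rfl] at this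
    simp only [one_mul] at this
    rw [Matrix.mul_apply, Matrix.smul_apply, smul_eq_mul]
    simp only [hcol]
    exact this
  calc A = A * (mat6 basisM * B) := by rw [hB, mul_one]
    _ = c • (mat6 basisM * B) := by rw [← mul_assoc, h1, Matrix.smul_mul]
    _ = c • 1 := by rw [hB]

/-- The pairs acting alike. -/
noncomputable def RR : Subgroup (Γ × CB) where
  carrier := {x | ∀ p, gm x.1 *ᵥ W p = W ((x.2 : ↥(CfsgPC.genG 280 (U43Mult.gens.map Prod.fst)) × Perm PtsB).2 p)}
  one_mem' := fun p => by rw [Prod.fst_one, gm_one, one_mulVec]; rfl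
  mul_mem' := by
    intro x y hx hy p
    rw [Prod.fst_mul, gm_mul, ← mulVec_mulVec, hy, hx]
    rfl
  inv_mem' := by
    intro x hx p
    have h := hx (((x.2⁻¹ : CB) : ↥(CfsgPC.genG 280 (U43Mult.gens.map Prod.fst)) × Perm PtsB).2 p)
    have h1 : ((x.2 : ↥(CfsgPC.genG 280 (U43Mult.gens.map Prod.fst)) × Perm PtsB)).2
        (((x.2⁻¹ : CB) : ↥(CfsgPC.genG 280 (U43Mult.gens.map Prod.fst)) × Perm PtsB).2 p) = p := by
      rw [InvMemClass.coe_inv, Prod.snd_inv, ← Perm.mul_apply, mul_inv_cancel, Perm.one_apply]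
    rw [h1] at h
    rw [← h, Prod.fst_inv, mulVec_mulVec, ← gm_mul, inv_mul_cancel, gm_one, one_mulVec]
    rfl

/-- A generator pair. -/
noncomputable def genR (j : Fin 2) : Γ × CB :=
  (elN (gensA.getD j.val 0), ⟨LabelCover.gen U43Mult.coverB_ok U43Mult.small_valid j, subset_closure ⟨j, rfl⟩⟩)

theorem okA_j (j : Fin 2) : okM (ofN (gensA.getD j.val 0)) = true := by
  have hj : j.val < gensA.length := by rw [okA.2]; exact j.2
  rw [List.getD_eq_getElem _ _ hj]
  exact List.all_eq_true.mp okA.1 _ (List.getElem_mem hj)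

theorem genR_mem (j : Fin 2) : genR j ∈ RR := by
  intro p
  obtain ⟨a, s⟩ := p
  haveI : NeZero U43Mult.coverB.q := ⟨by rw [coverB_q]; norm_num⟩
  have ha : a.val < 126 := a.2.trans_le coverB_m.le
  have hm := of_beqR (List.all_eq_true.mp (List.all_eq_true.mp move_ok j.val (List.mem_range.mpr j.2)) a.val
    (List.mem_range.mpr ha))
  rw [mulV_eq, rowV_smR] at hm
  have hlab : U43Mult.coverB.lab j.val a.val < 3 :=
    (LabelCover.lab_lt U43Mult.coverB_ok j.2 a.2).trans_le coverB_q.le
  have hp : (CfsgPCV.decP U43Mult.coverB.m (U43Mult.coverB.codes.getD j.val (0, 0)).1 a).val =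
      U43Mult.coverB.act j.val a.val := (LabelCover.perm_rep U43Mult.coverB_ok j.2 a).symm
  show gm (elN (gensA.getD j.val 0)) *ᵥ (ph s.val • rowV (vecA a.val)) = ph _ • rowV (vecA _)
  rw [gm_elN (okA_j j), Matrix.mulVec_smul, hm, smul_smul]
  show _ = ph ((s + (U43Mult.coverB.lab j.val a.val : ZMod _)).val) •
    rowV (vecA (CfsgPCV.decP U43Mult.coverB.m (U43Mult.coverB.codes.getD j.val (0, 0)).1 a).val)
  rw [hp]
  congr 1
  have h3 := ph_add ⟨s.val, val_lt s⟩ ⟨_, hlab⟩
  rw [ZMod.val_add, ZMod.val_natCast]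
  simp only [coverB_q, Nat.mod_eq_of_lt hlab]
  exact h3.symm

/-- The closure of the generator pairs. -/
noncomputable def RG : Subgroup (Γ × CB) := closure (Set.range genR)

theorem RG_le : RG ≤ RR := (closure_le RR).mpr (by rintro _ ⟨j, rfl⟩; exact genR_mem j)

/-- The subgroup. -/
noncomputable def K0 : Subgroup Γ := closure (Set.range fun j : Fin 2 => elN (gensA.getD j.val 0))

theorem RG_fst : RG.map (MonoidHom.fst Γ CB) = K0 := by
  rw [RG, MonoidHom.map_closure, ← Set.range_comp]
  rfl

theorem RG_snd (y : CB) : ∃ g : Γ, (g, y) ∈ RG := by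
  suffices h : (⊤ : Subgroup CB) ≤ RG.map (MonoidHom.snd Γ CB) by
    obtain ⟨x, hx, e⟩ := h (mem_top y)
    exact ⟨x.1, by rwa [show (x.1, y) = x from Prod.ext rfl e.symm]⟩
  refine (Subgroup.map_le_map_iff_of_injective (f := (closure (Set.range (LabelCover.gen U43Mult.coverB_ok
    U43Mult.small_valid))).subtype) (Subgroup.subtype_injective _)).mp ?_
  rw [← MonoidHom.range_eq_map, Subgroup.range_subtype, closure_le]
  rintro _ ⟨j, rfl⟩
  exact ⟨_, ⟨genR j, subset_closure ⟨j, rfl⟩, rfl⟩, rfl⟩

theorem mask_sep {x : Perm (Fin 280)}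
    (h : ∀ (i : Fin U43Mult.coverB.m) (t : Fin 280), (U43Mult.coverB.mask i).testBit (x t) =
      (U43Mult.coverB.mask i).testBit t) : x = 1 := by
  have hk : ∀ t : Fin 280, keyAt (x t).val = keyAt t.val := fun t => by
    simp only [keyAt]
    have aux : ∀ L : List ℕ, (∀ i ∈ L, i < 126) →
        L.foldr (fun i y => (bif (U43Mult.coverB.mask i).testBit (x t) then 2 ^ i else 0) + y) 0 =
          L.foldr (fun i y => (bif (U43Mult.coverB.mask i).testBit t then 2 ^ i else 0) + y) 0 := by
      intro L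
      induction L with
      | nil => intro _; rfl
      | cons i L ih =>
        intro hL
        rw [List.foldr_cons, List.foldr_cons, ih fun y hy => hL y (List.mem_cons_of_mem _ hy),
          h ⟨i, (hL i (List.mem_cons_self ..)).trans_le coverB_m.symm.le⟩ t]
    exact aux _ fun i hi => List.mem_range.mp hi
  have hv : ∀ t : Fin 280, keyAt t.val = maskKeys.getD t.val 0 := fun t =>
    Nat.eq_of_beq_eq_true (List.all_eq_true.mp keys_val t.val (List.mem_range.mpr t.2))
  have hinc := keys_inc
  simp only [List.all_eq_true, List.mem_range, Bool.and_eq_true, Bool.or_eq_true, Nat.blt_eq, Nat.ble_eq] at hinc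
  set f : Fin 280 → ℕ := fun k => maskKeys.getD (maskOrd.getD k.val 0) 0 with hf
  have hmono : StrictMono f := Fin.strictMono_iff_lt_succ.mpr fun k => by
    have := (hinc k.val (by omega)).2.resolve_left (by omega)
    simpa [hf] using this
  let o : Fin 280 → Fin 280 := fun k => ⟨maskOrd.getD k.val 0, (hinc k.val k.2).1⟩
  have ho : Function.Surjective o :=
    Finite.injective_iff_surjective.mp fun a b e => hmono.injective (congrArg (fun z : Fin 280 => maskKeys.getD z.val 0) e)
  refine Equiv.ext fun t => ?_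
  obtain ⟨a, ha⟩ := ho (x t)
  obtain ⟨b, hb⟩ := ho t
  have e : f a = f b := by
    have h2 := hk t
    rw [hv, hv, ← ha, ← hb] at h2
    exact h2
  rw [← ha, hmono.injective e, hb]
  rfl

theorem fst_injective {x : Γ × CB} (hx : x ∈ RG) (h1 : x.1 = 1) : x = 1 := by
  have hq : ((x.2 : ↥(CfsgPC.genG 280 (U43Mult.gens.map Prod.fst)) × Perm PtsB)).2 = 1 :=
    Equiv.ext fun p => W_injective (by
      have := RG_le hx p
      rw [h1, gm_one, one_mulVec] at this
      exact this.symm)
  obtain ⟨p, c, ep, hl, -⟩ := LabelCover.cover_good U43Mult.coverB_ok U43Mult.small_valid x.2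
  rw [hq] at ep
  have hp : ∀ i, p i = i := fun i => (congrArg (fun z : PtsB => z.1) (Equiv.congr_fun ep (i, 0))).symm
  have hx1 := mask_sep (x := ((x.2 : ↥(CfsgPC.genG 280 (U43Mult.gens.map Prod.fst)) × Perm PtsB)).1.1) fun i t => by
    have := (hl i t).1
    rw [hp i] at this
    exact this.symm
  exact Prod.ext h1 (Subtype.ext (Prod.ext (Subtype.ext hx1) hq))

theorem snd_injective {x : Γ × CB} (hx : x ∈ RG) (h2 : x.2 = 1) : x = 1 := by
  refine Prod.ext (gm_inj ?_) h2
  rw [Prod.fst_one, gm_one, ← one_smul K (1 : Matrix (Fin 6) (Fin 6) K)]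
  refine eq_smul_of_W fun p _ => ?_
  rw [RG_le hx p, h2, one_smul]
  rfl

/-- The map onto the subgroup. -/
noncomputable def fstG : RG →* K0 where
  toFun x := ⟨x.1.1, by rw [← RG_fst]; exact ⟨x.1, x.2, rfl⟩⟩
  map_one' := rfl
  map_mul' _ _ := rfl

/-- The map onto the cover. -/
noncomputable def sndG : RG →* CB := (MonoidHom.snd Γ CB).comp RG.subtype

theorem fstG_bij : Function.Bijective fstG := by
  refine ⟨(injective_iff_map_eq_one _).mpr fun x hx => Subtype.ext (fst_injective x.2 (congrArg Subtype.val hx)), ?_⟩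
  rintro ⟨g, hg⟩
  rw [← RG_fst] at hg
  obtain ⟨x, hx, rfl⟩ := hg
  exact ⟨⟨x, hx⟩, rfl⟩

theorem sndG_bij : Function.Bijective sndG := by
  refine ⟨(injective_iff_map_eq_one _).mpr fun x hx => Subtype.ext (snd_injective x.2 hx), fun y => ?_⟩
  obtain ⟨g, hg⟩ := RG_snd y
  exact ⟨⟨(g, y), hg⟩, rfl⟩

/-- The subgroup is the cover. -/
noncomputable def toCover : K0 ≃* CB :=
  (MulEquiv.ofBijective fstG fstG_bij).symm.trans (MulEquiv.ofBijective sndG sndG_bij)

theorem toCover_spec (g : K0) : ((g : Γ), toCover g) ∈ RG := by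
  obtain ⟨x, rfl⟩ := fstG_bij.2 g
  have h : (MulEquiv.ofBijective fstG fstG_bij).symm (fstG x) = x :=
    (MulEquiv.ofBijective fstG fstG_bij).symm_apply_apply x
  rw [toCover, MulEquiv.trans_apply, h]
  exact x.2

/-- The map onto PSU4(3). -/
noncomputable def pi0 : K0 →* SmallU :=
  (LabelCover.proj U43Mult.coverB_ok U43Mult.small_valid).comp toCover.toMonoidHom

theorem pi0_surjective : Function.Surjective pi0 :=
  (LabelCover.proj_surjective U43Mult.coverB_ok U43Mult.small_valid).comp toCover.surjective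

theorem small_u_card : Nat.card SmallU = 3265920 := by
  haveI : Fact (Nat.Prime 3) := ⟨Nat.prime_three⟩
  letI : Fintype (GaloisField 3 2) := Fintype.ofFinite _
  exact (U43Mult.small_card (F := GaloisField 3 2)
    (by rw [← Nat.card_eq_fintype_card, GaloisField.card 3 2 two_ne_zero]; norm_num)).1

/-- The scalar of order three. -/
noncomputable def om : Γ := monoEl (fun _ => 1) 1

theorem gm_om : gm om = K.w • 1 := by
  rw [om, gm_monoEl, monoF_diag, Matrix.smul_one_eq_diagonal]
  congr 1
  funext i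
  fin_cases i <;> rfl

/-- The scalars. -/
noncomputable def Zs : Subgroup Γ := zpowers om

theorem orderOf_om : orderOf om = 3 := by
  haveI : Fact (Nat.Prime 3) := ⟨Nat.prime_three⟩
  refine orderOf_eq_prime (gm_inj ?_) fun h => ?_
  · rw [pow_three, gm_mul, gm_mul, gm_om, gm_one, Matrix.smul_mul, Matrix.one_mul, Matrix.smul_mul, Matrix.one_mul,
      smul_smul, smul_smul]
    exact one_smul _ _
  · have := congrFun (congrFun (congrArg gm h) 0) 0
    rw [gm_om, gm_one] at this
    simp at this

theorem card_Zs : Nat.card Zs = 3 := by rw [Zs, Nat.card_zpowers, orderOf_om]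

theorem pi0_ker : pi0.ker.map K0.subtype = Zs := by
  set w := LabelCover.val U43Mult.coverB_ok U43Mult.small_valid U43Mult.coverB.word with hw
  have hker : pi0.ker = zpowers (toCover.symm w) := by
    ext g
    rw [MonoidHom.mem_ker, show pi0 g = LabelCover.proj U43Mult.coverB_ok U43Mult.small_valid (toCover g) from rfl,
      ← MonoidHom.mem_ker, LabelCover.ker_eq]
    constructor
    · rintro ⟨k, hk⟩
      exact ⟨k, by
        show toCover.symm w ^ k = g
        rw [← map_zpow, show w ^ k = toCover g from hk, MulEquiv.symm_apply_apply]⟩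
    · rintro ⟨k, rfl⟩
      exact ⟨k, by rw [map_zpow, MulEquiv.apply_symm_apply]⟩
  have hval : ((toCover.symm w : K0) : Γ) = om := by
    refine gm_inj ?_
    rw [gm_om]
    refine eq_smul_of_W fun p hp => ?_
    obtain ⟨a, s⟩ := p
    obtain rfl : s = 0 := hp
    have h := RG_le (toCover_spec (toCover.symm w)) (a, 0)
    rw [MulEquiv.apply_symm_apply, hw, LabelCover.val_word] at h
    refine h.trans ?_
    haveI : NeZero U43Mult.coverB.q := ⟨by rw [coverB_q]; norm_num⟩
    haveI : Fact (1 < U43Mult.coverB.q) := ⟨by rw [coverB_q]; norm_num⟩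
    simp only [W, LabelCover.mono_apply, Perm.one_apply, zero_add, ZMod.val_one, ZMod.val_zero, smul_smul]
    rfl
  rw [hker, MonoidHom.map_zpowers, Zs]
  exact congrArg zpowers hval

theorem Zs_le_K0 : Zs ≤ K0 := by
  rw [← pi0_ker]
  exact map_subtype_le _

theorem card_K0 : Nat.card K0 = 9797760 := by
  have h := pi0.ker.card_mul_index
  rw [index_ker, MonoidHom.range_eq_top.mpr pi0_surjective, card_top, small_u_card] at h
  have hk : Nat.card pi0.ker = 3 := by
    rw [Nat.card_congr (pi0.ker.equivMapOfInjective K0.subtype K0.subtype_injective).toEquiv, pi0_ker, card_Zs]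
  rw [← h, hk]

end CfsgLib.SUSixSub
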