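/-
The frame stabiliser of the subgroup, and the consequences of its order.
-/
import Cfsg.Agent.Lib.SUSixSub.KZero

set_option autoImplicit false
set_option maxRecDepth 30000
set_option maxHeartbeats 1000000
set_option linter.style.haveILetI false

namespace CfsgLib.SUSixSub

open Matrix CfsgLib.G24 Equiv Subgroup

attribute [local irreducible] gensA gensC gensM tauN frameReps framePar frameNext

theorem gm_inv (g : Γ) : gm g⁻¹ = ((gm g).map (· ^ 2))ᵀ := by
  have h1 : gm g⁻¹ * gm g = 1 := by rw [← gm_mul, inv_mul_cancel, gm_one]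
  have h2 : ((gm g).map (· ^ 2))ᵀ * gm g = 1 := by
    have := congrArg Matrix.transpose (unitary g)
    rwa [Matrix.transpose_mul, Matrix.transpose_transpose, Matrix.transpose_one] at this
  exact left_inv_eq_left_inv h1 h2 |>.trans rfl

theorem mat6_inv {g : Γ} {A : M6} (h : gm g = mat6 A) : gm g⁻¹ = mat6 (tr (cjM A)) := by
  rw [gm_inv, h, mat6_tr, mat6_cj]

theorem mem_Nm_iff {g : Γ} {A : M6} (h : gm g = mat6 A) : g ∈ Nm ↔ monoB A = true := by
  have hb : ∀ a : K, beqK a .o = true ↔ a = 0 := by decide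
  simp only [monoB, List.all_eq_true, List.mem_finRange, forall_const, Bool.or_eq_true, hb, ← h, Nat.beq_eq,
    ← Fin.ext_iff]
  refine ⟨?_, fun hm => mem_Nm_of_rows fun i k l hk hl => ?_⟩
  · rintro ⟨d, p, -, e⟩ i k l
    rw [e]
    simp only [monoF]
    by_cases hk : i = p k
    · by_cases hl : i = p l
      · exact Or.inl (Or.inl (p.injective (hk.symm.trans hl)))
      · exact Or.inr (if_neg hl)
    · exact Or.inl (Or.inr (if_neg hk))
  · rcases hm i k l with (e | e) | e
    · exact e
    · exact absurd e hk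
    · exact absurd e hl

/-- The frame representatives. -/
noncomputable def rep (k : Fin 112) : Γ := el (repM k.val)

theorem okRep (k : Fin 112) : okM (repM k.val) = true := by
  have hk : k.val < frameReps.length := by rw [okReps.2]; exact k.2
  rw [repM, List.getD_eq_getElem _ _ hk]
  exact List.all_eq_true.mp okReps.1 _ (List.getElem_mem hk)

theorem gm_rep (k : Fin 112) : gm (rep k) = mat6 (repM k.val) := gm_el (okRep k)

theorem gensA_mem (j : Fin 2) : elN (gensA.getD j.val 0) ∈ K0 := subset_closure ⟨j, rfl⟩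

theorem rep_mem (k : Fin 112) : rep k ∈ K0 := by
  obtain ⟨k, hk⟩ := k
  induction k using Nat.strong_induction_on with
  | _ k ih =>
    have h := List.all_eq_true.mp frames_tree k (List.mem_range.mpr hk)
    simp only [Bool.or_eq_true, Bool.and_eq_true, Nat.blt_eq] at h
    rcases h with ⟨-, h⟩ | ⟨⟨hp, hj⟩, h⟩
    · rw [show rep ⟨k, hk⟩ = 1 from gm_inj (by rw [gm_rep, of_beqM h, mat6_one, gm_one])]
      exact one_mem _
    · rw [show rep ⟨k, hk⟩ = elN (gensA.getD (⟨_, hj⟩ : Fin 2).val 0) * rep ⟨_, hp.trans hk⟩ from gm_inj (by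
        rw [gm_rep, of_beqM h, mat6_mul, gm_mul, gm_rep, gm_elN (okA_j ⟨_, hj⟩)])]
      exact mul_mem (gensA_mem _) (ih _ hp _)

theorem rep_distinct {k l : Fin 112} (h : (rep l)⁻¹ * rep k ∈ Nm) : k = l := by
  have aux : ∀ k l : Fin 112, l.val < k.val → (rep l)⁻¹ * rep k ∉ Nm := fun k l hlt hm => by
    have h2 := List.all_eq_true.mp (List.all_eq_true.mp frames_distinct k.val (List.mem_range.mpr k.2)) l.val
      (List.mem_range.mpr hlt)
    rw [(mem_Nm_iff (A := mulM (tr (cjM (repM l.val))) (repM k.val))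
      (by rw [gm_mul, mat6_inv (gm_rep l), gm_rep, mat6_mul])).mp hm] at h2
    exact Bool.noConfusion h2
  rcases lt_trichotomy l.val k.val with hlt | heq | hgt
  · exact absurd h (aux k l hlt)
  · exact Fin.ext heq.symm
  · exact absurd (by simpa [_root_.mul_inv_rev] using inv_mem h) (aux l k hgt)

/-- The elements moving every frame of the list into the list. -/
noncomputable def movers : Subgroup Γ where
  carrier := {g | ∀ k, ∃ l, (rep l)⁻¹ * (g * rep k) ∈ Nm}
  one_mem' := fun k => ⟨k, by rw [one_mul, inv_mul_cancel]; exact one_mem _⟩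
  mul_mem' := by
    intro a b ha hb k
    obtain ⟨l, hl⟩ := hb k
    obtain ⟨m, hm⟩ := ha l
    refine ⟨m, ?_⟩
    have := mul_mem hm hl
    rwa [show (rep m)⁻¹ * (a * rep l) * ((rep l)⁻¹ * (b * rep k)) = (rep m)⁻¹ * (a * b * rep k) by group] at this
  inv_mem' := by
    intro g hg
    refine inv_mem_of_mul (S := {g : Γ | ∀ k, ∃ l, (rep l)⁻¹ * (g * rep k) ∈ Nm})
      (fun k => ⟨k, by rw [one_mul, inv_mul_cancel]; exact one_mem _⟩) ?_ hg
    intro a b ha hb k
    obtain ⟨l, hl⟩ := hb k
    obtain ⟨m, hm⟩ := ha l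
    refine ⟨m, ?_⟩
    have := mul_mem hm hl
    rwa [show (rep m)⁻¹ * (a * rep l) * ((rep l)⁻¹ * (b * rep k)) = (rep m)⁻¹ * (a * b * rep k) by group] at this

theorem K0_le_movers : K0 ≤ movers := by
  rw [K0, closure_le]
  rintro _ ⟨j, rfl⟩ k
  have h := List.all_eq_true.mp (List.all_eq_true.mp frames_closed j.val (List.mem_range.mpr j.2)) k.val
    (List.mem_range.mpr k.2)
  simp only [Bool.and_eq_true, Nat.blt_eq] at h
  refine ⟨⟨_, h.1⟩, (mem_Nm_iff ?_).mpr h.2⟩
  show gm ((rep _)⁻¹ * (elN (gensA.getD j.val 0) * rep k)) = _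
  rw [gm_mul, gm_mul, mat6_inv (gm_rep _), gm_elN (okA_j j), gm_rep, mat6_mul, mat6_mul]

theorem card_Nm_K0 : Nat.card (Nm.subgroupOf K0) = 87480 := by
  have hb : Function.Bijective fun k : Fin 112 => (QuotientGroup.mk ⟨rep k, rep_mem k⟩ : K0 ⧸ Nm.subgroupOf K0) := by
    refine ⟨fun k l h => ?_, fun q => ?_⟩
    · exact (rep_distinct (mem_subgroupOf.mp (QuotientGroup.eq.mp h))).symm
    · obtain ⟨g, rfl⟩ := QuotientGroup.mk_surjective q
      have h0 := List.all_eq_true.mp frames_tree 0 (List.mem_range.mpr (by norm_num))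
      simp only [Bool.or_eq_true, Bool.and_eq_true, Nat.blt_eq, Nat.not_lt_zero, false_and, or_false] at h0
      have hr : rep ⟨0, by norm_num⟩ = 1 := gm_inj (by rw [gm_rep, of_beqM h0.2, mat6_one, gm_one])
      obtain ⟨l, hl⟩ := K0_le_movers g.2 ⟨0, by norm_num⟩
      rw [hr, mul_one] at hl
      exact ⟨l, QuotientGroup.eq.mpr (mem_subgroupOf.mpr hl)⟩
  have hi : (Nm.subgroupOf K0).index = 112 := by
    rw [Subgroup.index, ← Nat.card_congr (Equiv.ofBijective _ hb), Nat.card_fin]
  have h := (Nm.subgroupOf K0).card_mul_index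
  rw [hi, card_K0] at h
  omega

/-- The monomial element of a permutation. -/
noncomputable def permEl : Perm (Fin 6) →* Γ :=
  MonoidHom.mk' (fun p => (exists_mono (d := 1) (by simp) p).choose) fun p q => gm_inj (by
    rw [gm_mul, (exists_mono (d := 1) (by simp) (p * q)).choose_spec, (exists_mono (d := 1) (by simp) p).choose_spec,
      (exists_mono (d := 1) (by simp) q).choose_spec, monoF_mul]
    exact congrArg (fun d => monoF d (p * q)) (funext fun i => (one_mul 1).symm))

theorem gm_permEl (p : Perm (Fin 6)) : gm (permEl p) = monoF 1 p := (exists_mono (d := 1) (by simp) p).choose_spec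

theorem permEl_mem {A : Subgroup (Perm (Fin 6))} {p : Perm (Fin 6)} (hp : p ∈ A) : permEl p ∈ monoSub A :=
  ⟨1, p, hp, gm_permEl p⟩

theorem monoEl_split (l : Fin 5 → Fin 3) (p : Perm (Fin 6)) : monoEl l p = monoEl l 1 * permEl p := gm_inj (by
  rw [gm_mul, gm_monoEl, gm_monoEl, gm_permEl, monoF_mul, one_mul]
  congr 1
  funext i
  simp)

theorem monoEl_cube (l : Fin 5 → Fin 3) : monoEl l 1 ^ 3 = 1 := gm_inj (by
  rw [pow_three, gm_mul, gm_mul, gm_monoEl, monoF_mul, monoF_mul, gm_one, ← monoF_one]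
  congr 1
  funext i
  have h : ∀ a : Fin 3, wp a * (wp a * wp a) = 1 := by decide
  exact h _)

/-- The transposition. -/
noncomputable def tau : Γ := permEl (Equiv.swap 0 1)

theorem gm_tau : gm tau = mat6 (ofN tauN) := by
  have hb : ((List.finRange 6).all fun i => (List.finRange 6).all fun k =>
      beqK (if i = (Equiv.swap (0 : Fin 6) 1) k then .i else .o) (mat6 (ofN tauN) i k)) = true := by
    decide +kernel
  have h : ∀ i k : Fin 6, monoF 1 (Equiv.swap 0 1) i k = mat6 (ofN tauN) i k := fun i k => by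
    have e := beqK_eq _ _ (List.all_eq_true.mp (List.all_eq_true.mp hb i (List.mem_finRange i)) k (List.mem_finRange k))
    rw [← e]
    rfl
  rw [tau, gm_permEl]
  exact Matrix.ext fun i k => h i k

theorem okT : okM (ofN tauN) = true :=
  List.all_eq_true.mp okMC.2.2.1 _ (List.mem_append_right _ (List.mem_singleton.mpr rfl))

theorem elN_tau : elN tauN = tau := gm_inj ((gm_elN okT).trans gm_tau.symm)

theorem tau_sq : tau * tau = 1 := by
  rw [tau, ← map_mul, Equiv.swap_mul_self, map_one]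

theorem tau_mem : tau ∈ Nm := permEl_mem (mem_top _)

/-- A subgroup meeting the monomial subgroup like the first one. -/
def Half (H : Subgroup Γ) : Prop := Nat.card (Nm.subgroupOf H) = 87480

theorem half_K0 : Half K0 := card_Nm_K0

variable {H : Subgroup Γ} (hH : Half H)

include hH

theorem half_index : (H.subgroupOf Nm).index = 2 := by
  have h := (H.subgroupOf Nm).card_mul_index
  have e : Nat.card (H.subgroupOf Nm) = Nat.card (Nm.subgroupOf H) :=
    Nat.card_congr ⟨fun x => ⟨⟨x.1.1, x.2⟩, x.1.2⟩, fun x => ⟨⟨x.1.1, x.2⟩, x.1.2⟩, fun _ => rfl, fun _ => rfl⟩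
  rw [e, hH, card_Nm] at h
  omega

theorem cube_mem {n : Γ} (hn : n ∈ Nm) (h3 : n ^ 3 = 1) : n ∈ H := by
  have h2 := (H.subgroupOf Nm).mul_self_mem_of_index_two (half_index hH) ⟨n * n, mul_mem hn hn⟩
  rw [mem_subgroupOf] at h2
  have e : n * n * (n * n) = n := by
    calc n * n * (n * n) = n ^ 3 * n := by simp only [pow_succ, pow_zero, one_mul, mul_assoc]
      _ = n := by rw [h3, one_mul]
  rwa [Subgroup.coe_mul, e] at h2

theorem diag_mem : Dg ≤ H := by
  intro g hg
  obtain ⟨l, p, hp, rfl⟩ := exists_monoEl hg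
  obtain rfl := Subgroup.mem_bot.mp hp
  exact cube_mem hH (monoSub_le _ hg) (monoEl_cube l)

theorem P0_le : P0 ≤ H := by
  intro g hg
  obtain ⟨l, p, hp, rfl⟩ := exists_monoEl hg
  rw [monoEl_split]
  refine mul_mem (diag_mem hH (monoEl_mem (one_mem _) l)) (cube_mem hH (permEl_mem (mem_top _)) ?_)
  obtain ⟨x, rfl⟩ := hp
  rw [← map_pow, ← map_pow]
  have : ∀ x : Multiplicative (ZMod 3 × ZMod 3), x ^ 3 = 1 := by decide +kernel
  rw [this x, map_one, map_one]

theorem tau_not_mem : tau ∉ H := by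
  intro ht
  have hperm : ∀ p, permEl p ∈ H := by
    have hc : ∀ p : Perm (Fin 6), p ^ 3 = 1 → permEl p ∈ H := fun p hp =>
      cube_mem hH (permEl_mem (mem_top _)) (by rw [← map_pow, hp, map_one])
    have htop : (closure {finRotate 6, Equiv.swap (0 : Fin 6) 1} : Subgroup (Perm (Fin 6))) = ⊤ := by
      have := Equiv.Perm.closure_cycle_adjacent_swap (isCycle_finRotate (n := 4)) (support_finRotate (n := 4)) (0 : Fin 6)
      simpa using this
    intro p
    have hp : p ∈ closure {finRotate 6, Equiv.swap (0 : Fin 6) 1} := htop ▸ mem_top p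
    refine (closure_le (H.comap permEl)).mpr ?_ hp
    rintro q (rfl | rfl)
    · show permEl (finRotate 6) ∈ H
      rw [show finRotate 6 = Equiv.swap (0 : Fin 6) 1 * c[(1 : Fin 6), 2, 3] * c[(3 : Fin 6), 4, 5] by decide +kernel,
        map_mul, map_mul]
      exact mul_mem (mul_mem ht (hc _ (by decide +kernel))) (hc _ (by decide +kernel))
    · exact ht
  have htop : H.subgroupOf Nm = ⊤ := by
    rw [eq_top_iff]
    rintro ⟨g, hg⟩ -
    obtain ⟨l, p, -, rfl⟩ := exists_monoEl hg
    rw [mem_subgroupOf]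
    show monoEl l p ∈ H
    rw [monoEl_split]
    exact mul_mem (diag_mem hH (monoEl_mem (one_mem _) l)) (hperm p)
  have := half_index hH
  rw [htop, index_top] at this
  omega

theorem mem_or_tau_mul {n : Γ} (hn : n ∈ Nm) : n ∈ H ∨ tau * n ∈ H := by
  by_cases h : n ∈ H
  · exact Or.inl h
  · refine Or.inr ?_
    have := ((H.subgroupOf Nm).mul_mem_iff_of_index_two (half_index hH) (a := ⟨tau, tau_mem⟩) (b := ⟨n, hn⟩)).mpr
      ⟨fun e => absurd e (fun e => tau_not_mem hH (mem_subgroupOf.mp e)), fun e => absurd (mem_subgroupOf.mp e) h⟩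
    exact mem_subgroupOf.mp this

end CfsgLib.SUSixSub
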