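/-
The subgroup of exponent three and a subgroup of order nine, seen through a map onto PSU4(3).
-/
import Cfsg.Agent.Lib.SUSixSub.Frame

set_option autoImplicit false
set_option maxRecDepth 30000
set_option maxHeartbeats 1000000
set_option linter.style.haveILetI false

namespace CfsgLib.SUSixSub

open Matrix CfsgLib.G24 Equiv Subgroup

attribute [local irreducible] gensA gensC gensM tauN

/-- The map of a monomial element to its permutation. -/
noncomputable def permH : Nm →* Perm (Fin 6) :=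
  MonoidHom.mk' (fun g => (mem_monoSub.mp g.2).choose_spec.choose) fun a b => by
    have ha := (mem_monoSub.mp a.2).choose_spec.choose_spec.2
    have hb := (mem_monoSub.mp b.2).choose_spec.choose_spec.2
    have hab := (mem_monoSub.mp (a * b).2).choose_spec.choose_spec.2
    exact (monoF_inj (mono_facts hab).2 (hab.symm.trans ((gm_mul _ _).trans ((congrArg₂ (· * ·) ha hb).trans (monoF_mul _ _ _ _))))).2

theorem permH_monoEl (l : Fin 5 → Fin 3) (p : Perm (Fin 6)) (h : monoEl l p ∈ Nm) : permH ⟨monoEl l p, h⟩ = p := by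
  have hs := (mem_monoSub.mp h).choose_spec.choose_spec.2
  exact (monoF_inj (mono_facts hs).2 (hs.symm.trans (gm_monoEl l p))).2

/-- Two elements commute up to a scalar. -/
def CommS (x y : Γ) : Prop := ∃ c : K, gm (x * y) = c • gm (y * x)

theorem commS_of_mem_Zs {x y : Γ} (h : x * y * (y * x)⁻¹ ∈ Zs) : CommS x y := by
  obtain ⟨k, hk⟩ := Submonoid.mem_powers_iff _ _ |>.mp (mem_powers_iff_mem_zpowers.mpr h)
  refine ⟨K.w ^ k, ?_⟩
  have hp : ∀ k : ℕ, gm (om ^ k) = K.w ^ k • 1 := by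
    intro k
    induction k with
    | zero => rw [pow_zero, pow_zero, one_smul, gm_one]
    | succ k ih => rw [pow_succ, gm_mul, ih, gm_om, Matrix.smul_mul, Matrix.one_mul, smul_smul, pow_succ]
  rw [show x * y = x * y * (y * x)⁻¹ * (y * x) by group, ← hk, gm_mul, hp, Matrix.smul_mul, Matrix.one_mul]

/-- The only subgroup of order 243 of the Sylow subgroup abelian modulo scalars. -/
theorem dg_char {E : Subgroup Γ} (hE : E ≤ P0) (hc : Nat.card E = 243) (hcomm : ∀ x ∈ E, ∀ y ∈ E, CommS x y) :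
    E = Dg := by
  by_contra hne
  have hnle : ¬ E ≤ Dg := fun h => hne (Subgroup.eq_of_le_of_card_ge h (by rw [hc, card_Dg]))
  let φ : E →* Perm (Fin 6) := permH.comp (Subgroup.inclusion (hE.trans (monoSub_le _)))
  have hφ : ∀ (e : E) l p, (e : Γ) = monoEl l p → φ e = p := fun e l p h => by
    have hm : monoEl l p ∈ Nm := h ▸ monoSub_le _ (hE e.2)
    show permH ⟨(e : Γ), _⟩ = p
    rw [← permH_monoEl l p hm]
    exact congrArg permH (Subtype.ext h)
  have hrange : φ.range ≤ a9.range := by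
    rintro _ ⟨e, rfl⟩
    obtain ⟨l, p, hp, h⟩ := exists_monoEl (hE e.2)
    rwa [hφ e l p h]
  have hcard9 : Nat.card a9.range ≤ 9 := by
    rw [MonoidHom.range_eq_map]
    refine (Nat.le_of_dvd ?_ (card_map_dvd _ _)).trans ?_
    · rw [card_top]; exact Nat.card_pos
    · rw [card_top, Nat.card_congr Multiplicative.toAdd, Nat.card_prod, Nat.card_zmod]
  -- the diagonal part
  have hdiag : ∀ e : φ.ker, ∃ l, (e.1 : Γ) = monoEl l 1 := fun e => by
    obtain ⟨l, p, -, h⟩ := exists_monoEl (hE e.1.2)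
    refine ⟨l, h.trans ?_⟩
    rw [← hφ e.1 l p h, e.2]
  choose lk hlk using hdiag
  have hlk_inj : Function.Injective lk := fun a b h => Subtype.ext (Subtype.ext (by rw [hlk, hlk, h]))
  have hbound : ∀ y : E, ∀ e : φ.ker, wOK (φ y) (lk e) = true := fun y e => by
    obtain ⟨l, p, -, h⟩ := exists_monoEl (hE y.2)
    rw [hφ y l p h]
    obtain ⟨c, hc⟩ := hcomm _ y.2 _ e.1.2
    rw [h, hlk] at hc
    exact wOK_of_comm (gm_monoEl l p) hc
  have hle : ∀ P : (Fin 5 → Fin 3) → Prop, [DecidablePred P] → (∀ e, P (lk e)) →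
      Nat.card φ.ker ≤ (Finset.univ.filter P).card := fun P _ hP => by
    rw [← Nat.card_eq_finsetCard]
    exact Nat.card_le_card_of_injective (fun e => ⟨lk e, Finset.mem_filter.mpr ⟨Finset.mem_univ _, hP e⟩⟩)
      fun a b h => hlk_inj (congrArg Subtype.val h)
  have hmul := φ.ker.card_mul_index
  rw [index_ker, hc] at hmul
  have hr9 : Nat.card φ.range ≤ 9 := (Nat.le_of_dvd Nat.card_pos (Subgroup.card_dvd_of_le hrange)).trans hcard9
  obtain ⟨e, he, heD⟩ := SetLike.not_le_iff_exists.mp hnle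
  have hne1 : φ ⟨e, he⟩ ≠ 1 := fun h1 => by
    obtain ⟨l, p, -, h⟩ := exists_monoEl (hE he)
    rw [hφ ⟨e, he⟩ l p h] at h1
    exact heD (h ▸ h1 ▸ monoEl_mem (one_mem _) l)
  obtain ⟨x, hx⟩ := hrange ⟨⟨e, he⟩, rfl⟩
  have h27 : Nat.card φ.ker ≤ 27 := (hle _ fun k => hx ▸ hbound ⟨e, he⟩ k).trans
    (wOK_bound x fun hx1 => hne1 (by rw [← hx, hx1, map_one]))
  have hfull : φ.range = a9.range := Subgroup.eq_of_le_of_card_ge hrange (by nlinarith)
  obtain ⟨y1, hy1⟩ : c[(0 : Fin 6), 1, 2] ∈ φ.range := by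
    rw [hfull]; exact ⟨Multiplicative.ofAdd (1, 0), by decide +kernel⟩
  obtain ⟨y2, hy2⟩ : c[(3 : Fin 6), 4, 5] ∈ φ.range := by
    rw [hfull]; exact ⟨Multiplicative.ofAdd (0, 1), by decide +kernel⟩
  have h9 : Nat.card φ.ker ≤ 9 :=
    (hle _ fun k => ⟨hy1 ▸ hbound y1 k, hy2 ▸ hbound y2 k⟩).trans wOK_two
  nlinarith

/-- A subgroup with a map onto PSU4(3) matching the first one on the Sylow subgroup. -/
structure Rho (H : Subgroup Γ) where
  rho : H →* SmallU
  surj : Function.Surjective rho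
  ker : rho.ker.map H.subtype = Zs
  le : P0 ≤ H
  img : (P0.subgroupOf H).map rho = (P0.subgroupOf K0).map pi0

/-- The first one. -/
noncomputable def rho0 : Rho K0 := ⟨pi0, pi0_surjective, pi0_ker, P0_le half_K0, rfl⟩

/-- The image of the diagonal subgroup. -/
noncomputable def JJ : Subgroup SmallU := (Dg.subgroupOf K0).map pi0

theorem Zs_le_Dg : Zs ≤ Dg := Subgroup.zpowers_le.mpr (monoEl_mem (one_mem _) _)

theorem JJ_comm : ∀ a ∈ JJ, ∀ b ∈ JJ, a * b = b * a := by
  rintro _ ⟨x, hx, rfl⟩ _ ⟨y, hy, rfl⟩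
  rw [← map_mul, ← map_mul]
  congr 1
  refine Subtype.ext (gm_inj ?_)
  obtain ⟨d, hd⟩ := mem_Dg.mp hx
  obtain ⟨e, he⟩ := mem_Dg.mp hy
  simp only [Subgroup.coe_mul, gm_mul, Subgroup.coe_subtype] at hd he ⊢
  rw [hd, he, Matrix.diagonal_mul_diagonal, Matrix.diagonal_mul_diagonal]
  congr 1
  funext i
  exact mul_comm _ _

variable {H : Subgroup Γ} (R : Rho H)

include R

theorem ker_card : Nat.card R.rho.ker = 3 := by
  rw [Nat.card_congr (R.rho.ker.equivMapOfInjective H.subtype H.subtype_injective).toEquiv, R.ker, card_Zs]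

theorem card_comap (S : Subgroup SmallU) : Nat.card (S.comap R.rho) = 3 * Nat.card S := by
  have h1 := (S.comap R.rho).card_mul_index
  rw [index_comap_of_surjective _ R.surj, ← R.rho.ker.card_mul_index, index_ker,
    MonoidHom.range_eq_top.mpr R.surj, card_top, ker_card R, ← S.card_mul_index] at h1
  exact Nat.eq_of_mul_eq_mul_right (Nat.pos_of_ne_zero S.index_ne_zero_of_finite) (by rw [h1, mul_assoc])

theorem Zs_le : Zs ≤ H := R.ker ▸ map_subtype_le _

theorem mem_ker_iff (x : H) : x ∈ R.rho.ker ↔ (x : Γ) ∈ Zs := by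
  rw [← R.ker]
  exact ⟨fun h => ⟨x, h, rfl⟩, fun ⟨y, hy, e⟩ => Subtype.ext (e : (y : Γ) = x) ▸ hy⟩

theorem commS_of_comm {x y : H} (h : R.rho x * R.rho y = R.rho y * R.rho x) : CommS (x : Γ) y := by
  refine commS_of_mem_Zs ((mem_ker_iff R (x * y * (y * x)⁻¹)).mp ?_)
  rw [MonoidHom.mem_ker, map_mul, map_inv, map_mul, map_mul, h, mul_inv_cancel]

theorem comap_P0_iff (x : H) : R.rho x ∈ (P0.subgroupOf K0).map pi0 ↔ (x : Γ) ∈ P0 := by
  rw [← R.img]
  refine ⟨fun ⟨y, hy, e⟩ => ?_, fun h => ⟨x, h, rfl⟩⟩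
  have hk : y⁻¹ * x ∈ R.rho.ker := by rw [MonoidHom.mem_ker, map_mul, map_inv, e, inv_mul_cancel]
  have := mul_mem hy (show y⁻¹ * x ∈ P0.subgroupOf H from
    Dg_le _ (Zs_le_Dg ((mem_ker_iff R _).mp hk)))
  rwa [mul_inv_cancel_left] at this

end CfsgLib.SUSixSub
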