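/-
A subgroup mapped onto PSU4(3) contains a candidate element.
-/
import Cfsg.Agent.Lib.SUSixSub.Local

set_option autoImplicit false
set_option maxRecDepth 30000
set_option maxHeartbeats 1000000
set_option linter.style.haveILetI false

namespace CfsgLib.SUSixSub

open Matrix CfsgLib.G24 Equiv Subgroup

attribute [local irreducible] gensA gensC gensM tauN frameH cands

variable {H : Subgroup Γ} (R : Rho H)

include R

/-- The preimage of the abelian subgroup is diagonal. -/
theorem comap_JJ : (JJ.comap R.rho).map H.subtype = Dg := by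
  refine dg_char ?_ ?_ ?_
  · rintro _ ⟨x, hx, rfl⟩
    exact (comap_P0_iff R x).mp (Subgroup.map_mono (fun (y : K0) (hy : (y : Γ) ∈ Dg) => Dg_le _ hy) (mem_comap.mp hx))
  · rw [← Nat.card_congr ((JJ.comap R.rho).equivMapOfInjective H.subtype H.subtype_injective).toEquiv, card_comap R]
    have h1 : JJ.comap pi0 = Dg.subgroupOf K0 := by
      rw [JJ, comap_map_eq, sup_eq_left]
      intro x hx
      exact Zs_le_Dg ((mem_ker_iff rho0 x).mp hx)
    have h2 := card_comap rho0 JJ
    rw [show rho0.rho = pi0 from rfl, h1] at h2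
    rw [← h2, Nat.card_congr (subgroupOfEquivOfLe (diag_mem half_K0)).toEquiv, card_Dg]
  · rintro _ ⟨x, hx, rfl⟩ _ ⟨y, hy, rfl⟩
    exact commS_of_comm R (JJ_comm _ hx _ hy)

theorem rho_JJ_iff (x : H) : R.rho x ∈ JJ ↔ (x : Γ) ∈ Dg := by
  rw [← comap_JJ R]
  exact ⟨fun h => ⟨x, h, rfl⟩, fun ⟨y, hy, e⟩ => H.subtype_injective e ▸ hy⟩

theorem normaliser_iff (x : H) : R.rho x ∈ Subgroup.normalizer (JJ : Set SmallU) ↔ (x : Γ) ∈ Nm := by
  refine ⟨fun h => normaliser_Dg fun d hd => ?_, fun h => ?_⟩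
  · have hdH : d ∈ H := (monoSub_mono bot_le).trans R.le hd
    have := (Subgroup.mem_normalizer_iff.mp h (R.rho ⟨d, hdH⟩)).mp ((rho_JJ_iff R _).mpr hd)
    rw [← map_mul, ← map_inv, ← map_mul, rho_JJ_iff R] at this
    exact this
  · have hnorm : ∀ d ∈ Dg, ∀ g ∈ Nm, g * d * g⁻¹ ∈ Dg := by
      intro d hd g hg
      have hd' : d ∈ Nm := monoSub_le _ hd
      have hk : ∀ z (hz : z ∈ Nm), z ∈ Dg ↔ permH ⟨z, hz⟩ = 1 := fun z hz => by
        refine ⟨fun hzd => ?_, fun e => ?_⟩
        · obtain ⟨l, p, hp, rfl⟩ := exists_monoEl hzd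
          obtain rfl := Subgroup.mem_bot.mp hp
          exact permH_monoEl l 1 hz
        · obtain ⟨l, p, -, rfl⟩ := exists_monoEl hz
          rw [permH_monoEl] at e
          exact e ▸ monoEl_mem (one_mem _) l
      rw [hk _ (mul_mem (mul_mem hg hd') (inv_mem hg)),
        show (⟨g * d * g⁻¹, mul_mem (mul_mem hg hd') (inv_mem hg)⟩ : Nm) = ⟨g, hg⟩ * ⟨d, hd'⟩ * ⟨g, hg⟩⁻¹ from rfl,
        map_mul, map_mul, (hk d hd').mp hd, mul_one, map_inv, mul_inv_cancel]
    rw [Subgroup.mem_normalizer_iff]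
    intro j
    obtain ⟨y, rfl⟩ := R.surj j
    rw [← map_mul, ← map_inv, ← map_mul, rho_JJ_iff R, rho_JJ_iff R, Subgroup.coe_mul, Subgroup.coe_mul,
      Subgroup.coe_inv]
    refine ⟨fun hy => hnorm _ hy _ h, fun hy => ?_⟩
    have := hnorm _ hy _ (inv_mem h)
    simpa [mul_assoc] using this

/-- Every such subgroup meets the monomial subgroup in half of it. -/
theorem half_of_rho : Half H := by
  have key : ∀ {H : Subgroup Γ} (R : Rho H),
      Nat.card (Nm.subgroupOf H) = 3 * Nat.card (Subgroup.normalizer (JJ : Set SmallU)) := fun {H} R => by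
    rw [← card_comap R]
    refine Nat.card_congr (Equiv.subtypeEquivRight fun x => ?_)
    exact (normaliser_iff R x).symm
  rw [Half, key R, ← key rho0]
  exact card_Nm_K0

omit R in
/-- The diagonal element constant on two blocks. -/
noncomputable def d3 : Γ := monoEl ![0, 0, 0, 1, 1] 1

omit R in
theorem gm_d3 : gm d3 = Matrix.diagonal fun i : Fin 6 => if (i : ℕ) < 3 then K.i else K.w := by
  rw [d3, gm_monoEl, monoF_diag]
  congr 1
  funext i
  fin_cases i <;> rfl

omit R in
theorem d3_comm {p : Γ} (hp : p ∈ P0) : d3 * p = p * d3 := by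
  obtain ⟨l, q, hq, rfl⟩ := exists_monoEl hp
  obtain ⟨x, rfl⟩ := hq
  refine gm_inj ?_
  rw [gm_mul, gm_mul, gm_d3, gm_monoEl, ← monoF_diag, monoF_mul, monoF_mul, one_mul, mul_one]
  congr 1
  funext i
  have hblk : ∀ (x : Multiplicative (ZMod 3 × ZMod 3)) (i : Fin 6), ((a9 x).symm i : ℕ) < 3 ↔ (i : ℕ) < 3 := by
    decide +kernel
  rw [mul_comm]
  show wp (l6 l i) * (if (i : ℕ) < 3 then K.i else K.w) = wp (l6 l i) * (if ((a9 x).symm i : ℕ) < 3 then K.i else K.w)
  simp only [hblk x i]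

omit R in
theorem d3_mem : d3 ∈ K0 := diag_mem half_K0 (monoEl_mem (one_mem _) _)

omit R in
/-- The first further element. -/
noncomputable def c0 : Γ := elN (gensC.getD 0 0)

omit R in
theorem okC (i : Fin 3) : okM (ofN (gensC.getD i.val 0)) = true := by
  have hi : i.val < gensC.length := by rw [okMC.2.2.2]; exact i.2
  rw [List.getD_eq_getElem _ _ hi]
  exact List.all_eq_true.mp okMC.2.2.1 _ (List.mem_append_left _ (List.getElem_mem hi))

omit R in
theorem gm_c0 : gm c0 = mat6 (ofN (gensC.getD 0 0)) := gm_elN (okC 0)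

omit R in
theorem c0_not_mem : c0 ∉ Nm := fun h => by
  have := (mem_Nm_iff gm_c0).mp h
  rw [monT.2.1] at this
  exact Bool.noConfusion this

omit R in
theorem c0_mem : c0 ∈ K0 := by
  refine mem_of_wordOK okA.1 (fun a ha => ?_) (okC 0) wordC_ok
  obtain ⟨j, hj, rfl⟩ := List.getElem_of_mem ha
  have := gensA_mem ⟨j, okA.2 ▸ hj⟩
  rwa [List.getD_eq_getElem _ _ hj] at this

omit R in
theorem c0_d3 : c0 * d3 = d3 * c0 := by
  have h : ((List.finRange 6).all fun i => (List.finRange 6).all fun k =>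
      (decide ((i : ℕ) < 3) == decide ((k : ℕ) < 3)) || beqK (mat6 (ofN (gensC.getD 0 0)) i k) .o) = true := by
    decide +kernel
  refine gm_inj (Matrix.ext fun i k => ?_)
  rw [gm_mul, gm_mul, gm_d3, Matrix.mul_diagonal, Matrix.diagonal_mul, gm_c0]
  have hik := List.all_eq_true.mp (List.all_eq_true.mp h i (List.mem_finRange i)) k (List.mem_finRange k)
  rcases Bool.or_eq_true _ _ |>.mp hik with e | e
  · rw [beq_iff_eq, decide_eq_decide] at e
    simp only [e]
    rw [mul_comm]
  · rw [beqK_eq _ _ e]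
    rw [show (K.o : K) = 0 from rfl, zero_mul, mul_zero]

/-- An element outside the monomial subgroup keeping both blocks. -/
theorem exists_block : ∃ x : H, (x : Γ) ∉ Nm ∧
    ∀ i k : Fin 6, gm (x : Γ) i k ≠ 0 → ((i : ℕ) < 3 ↔ (k : ℕ) < 3) := by
  set j : SmallU := pi0 ⟨d3, d3_mem⟩ with hj
  set u : SmallU := pi0 ⟨c0, c0_mem⟩ with hu
  obtain ⟨y, hy⟩ := R.surj j
  obtain ⟨x, hx⟩ := R.surj u
  have hjJ : j ∈ JJ := ⟨⟨d3, d3_mem⟩, monoEl_mem (one_mem _) _, rfl⟩
  have hyD : (y : Γ) ∈ Dg := (rho_JJ_iff R y).mp (hy ▸ hjJ)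
  obtain ⟨l, p, hp, hyl⟩ := exists_monoEl hyD
  obtain rfl := Subgroup.mem_bot.mp hp
  have hcomm : ∀ p ∈ P0, CommS p (y : Γ) := by
    intro p hp
    have hpH : p ∈ H := R.le hp
    refine commS_of_comm R (x := ⟨p, hpH⟩) ?_
    obtain ⟨q, hq, hqe⟩ : R.rho ⟨p, hpH⟩ ∈ (P0.subgroupOf K0).map pi0 := (comap_P0_iff R _).mpr hp
    rw [← hqe, hy, hj, ← map_mul, ← map_mul]
    congr 1
    exact Subtype.ext (d3_comm hq).symm
  have hw : ∀ p ∈ a9.range, wOK p l = true := fun p hp => by
    obtain ⟨c, hc⟩ := hcomm _ (monoEl_mem hp 0)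
    rw [hyl] at hc
    exact wOK_of_comm (gm_monoEl 0 p) hc
  have hshape := wOK_shape l (hw _ ⟨Multiplicative.ofAdd (1, 0), by decide +kernel⟩)
    (hw _ ⟨Multiplicative.ofAdd (0, 1), by decide +kernel⟩)
  have hgy : gm (y : Γ) = Matrix.diagonal fun i => wp (l6 l i) := by rw [hyl, gm_monoEl, monoF_diag]
  have hab : l6 l 0 ≠ l6 l 5 := by
    intro e
    have hcst : ∀ i, l6 l i = l6 l 0 := fun i => by rw [hshape i, e, ite_self]
    have hker : y ∈ R.rho.ker := by
      rw [mem_ker_iff R]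
      refine Subgroup.mem_zpowers_iff.mpr ⟨((l6 l 0).val : ℕ), ?_⟩
      rw [zpow_natCast]
      refine gm_inj ?_
      have hp : ∀ a : Fin 3, gm (om ^ a.val) = wp a • (1 : Matrix (Fin 6) (Fin 6) K) := by
        intro a
        fin_cases a
        · simp only [pow_zero, gm_one]; exact (one_smul _ _).symm
        · simp only [pow_one]; exact gm_om
        · rw [pow_two, gm_mul, gm_om, Matrix.smul_mul, Matrix.one_mul, smul_smul]; rfl
      rw [hp, hgy, Matrix.smul_one_eq_diagonal]
      congr 1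
      funext i
      exact congrArg wp (hcst i).symm
    rw [MonoidHom.mem_ker, hy] at hker
    have h3 := (mem_ker_iff rho0 ⟨d3, d3_mem⟩).mp (MonoidHom.mem_ker.mpr hker)
    obtain ⟨k, hk⟩ := Subgroup.mem_zpowers_iff.mp h3
    have hscal : ∀ k : ℤ, ∃ c : K, gm (om ^ k) = Matrix.diagonal fun _ => c := fun k => by
      have h1 : gm (om ^ (k % 3).toNat) = K.w ^ (k % 3).toNat • 1 := by
        generalize (k % 3).toNat = n
        induction n with
        | zero => rw [pow_zero, pow_zero, one_smul, gm_one]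
        | succ n ih => rw [pow_succ, gm_mul, ih, gm_om, Matrix.smul_mul, Matrix.one_mul, smul_smul, pow_succ]
      refine ⟨K.w ^ (k % 3).toNat, ?_⟩
      rw [← Matrix.smul_one_eq_diagonal, ← h1, ← zpow_natCast, Int.toNat_of_nonneg (Int.emod_nonneg _ (by norm_num)),
        show (3 : ℤ) = ((orderOf om : ℕ) : ℤ) by rw [orderOf_om]; rfl, zpow_mod_orderOf]
    obtain ⟨c, hc⟩ := hscal k
    rw [hk, gm_d3, Matrix.diagonal_eq_diagonal_iff] at hc
    exact absurd ((hc 0).trans (hc 5).symm) (by decide)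
  have hxy : CommS (x : Γ) (y : Γ) := by
    refine commS_of_comm R ?_
    rw [hx, hy, hu, hj, ← map_mul, ← map_mul]
    congr 1
    exact Subtype.ext c0_d3
  refine ⟨x, fun hN => ?_, fun i k hik => ?_⟩
  · exact c0_not_mem ((normaliser_iff rho0 ⟨c0, c0_mem⟩).mp (by
      show u ∈ _
      rw [← hx]
      exact (normaliser_iff R x).mpr hN))
  · obtain ⟨c, hc⟩ := hxy
    have he := congrFun (congrFun hc i) k
    rw [gm_mul, gm_mul, hgy, Matrix.smul_apply, Matrix.mul_diagonal, Matrix.diagonal_mul, smul_eq_mul] at he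
    have he2 : wp (l6 l k) = c * wp (l6 l i) := mul_left_cancel₀ hik (he.trans (by ring))
    have hc0 : c ≠ 0 := fun h0 => by
      rw [h0, zero_mul] at he2
      revert he2
      generalize l6 l k = a
      revert a
      decide
    obtain ⟨a, rfl⟩ := wp_surj c hc0
    rw [← wp_add] at he2
    have he3 := wp_inj _ _ he2
    have ha0 : a = 0 := by
      by_contra ha
      -- both rows of the two blocks have an entry
      have hrow : ∀ i : Fin 6, ∃ k : Fin 6, l6 l k = a + l6 l i := fun i => by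
        by_contra hn
        push Not at hn
        refine zero_ne_one ((Matrix.det_eq_zero_of_row_eq_zero i fun k => ?_).symm.trans (x : Γ).1.2)
        show gm (x : Γ) i k = 0
        by_contra hz
        have he := congrFun (congrFun hc i) k
        rw [gm_mul, gm_mul, hgy, Matrix.smul_apply, Matrix.mul_diagonal, Matrix.diagonal_mul, smul_eq_mul] at he
        exact hn k (wp_inj _ _ ((mul_left_cancel₀ hz (he.trans (by ring))).trans (wp_add _ _).symm))
      obtain ⟨k0, h0⟩ := hrow 0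
      obtain ⟨k5, h5⟩ := hrow 5
      rw [hshape k0] at h0
      rw [hshape k5] at h5
      have key : ∀ a b c : Fin 3, a ≠ 0 → b ≠ c → (b = a + b ∨ c = a + b) → (b = a + c ∨ c = a + c) → False := by decide
      refine key a (l6 l 0) (l6 l 5) ha hab ?_ ?_
      · split_ifs at h0 <;> [exact Or.inl h0; exact Or.inr h0]
      · split_ifs at h5 <;> [exact Or.inl h5; exact Or.inr h5]
    rw [ha0, zero_add, hshape i, hshape k] at he3
    by_cases hi : (i : ℕ) < 3 <;> by_cases hk : (k : ℕ) < 3 <;> simp only [hi, hk, if_true, if_false] at he3 ⊢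
    · exact absurd he3.symm hab
    · exact absurd he3 hab

end CfsgLib.SUSixSub
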