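/-
The candidates, the three subgroups, and which of them a subgroup contains.
-/
import Cfsg.Agent.Lib.SUSixSub.Block

set_option autoImplicit false
set_option maxRecDepth 30000
set_option maxHeartbeats 1000000
set_option linter.style.haveILetI false

namespace CfsgLib.SUSixSub

open Matrix CfsgLib.G24 Equiv Subgroup

attribute [local irreducible] gensA gensC gensM tauN frameH cands wordsA wordsT wordsCC

/-- An entry of a frame in three dimensions. -/
def fr (a : Fin 4) (i k : Fin 3) : K := kOf ((frameH.getD a.val 0 >>> (6 * i.val + 2 * k.val)) % 4)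

/-- The first three coordinates. -/
def lo (i : Fin 3) : Fin 6 := Fin.castAdd 3 i

/-- The last three coordinates. -/
def hi (i : Fin 3) : Fin 6 := Fin.natAdd 3 i

/-- Two frames side by side. -/
def blkM (a b : Fin 4) : M6 := ofF fun i k =>
  Fin.addCases (m := 3) (n := 3) (motive := fun _ => K)
    (fun i' => Fin.addCases (m := 3) (n := 3) (motive := fun _ => K) (fun k' => fr a i' k') (fun _ => K.o) k)
    (fun i' => Fin.addCases (m := 3) (n := 3) (motive := fun _ => K) (fun _ => K.o) (fun k' => fr b i' k') k) i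

theorem blk_ok : ((List.finRange 4).all fun a => (List.finRange 4).all fun b => okM (blkM a b) &&
    ((a == 0 && b == 0 && beqM (blkM a b) oneM) ||
      ((cands.any fun x => beqM (ofN x.1) (blkM a b)) &&
        cands.any fun x => beqM (ofN x.1) (mulM (blkM a b) (ofN tauN))))) = true := by decide +kernel

/-- A column is sent to a multiple of a basis vector by a frame. -/
def fits (a : Fin 4) (u : K × K × K) : Bool :=
  let v : Fin 3 → K := fun i => K.addK (K.addK (K.mulK (cjK (fr a 0 i)) u.1) (K.mulK (cjK (fr a 1 i)) u.2.1))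
    (K.mulK (cjK (fr a 2 i)) u.2.2)
  (List.finRange 3).all fun i => (List.finRange 3).all fun k => i == k || beqK (v i) .o || beqK (v k) .o

/-- The form in three dimensions. -/
def h3 (u v : K × K × K) : K :=
  K.addK (K.addK (K.mulK u.1 (cjK v.1)) (K.mulK u.2.1 (cjK v.2.1))) (K.mulK u.2.2 (cjK v.2.2))

theorem frame_unique : ∀ u : K × K × K, h3 u u = 1 → ∀ a b : Fin 4, fits a u = true → fits b u = true → a = b := by
  decide +kernel

theorem frame_cover : ∀ u v : K × K × K, h3 u u = 1 → h3 v v = 1 → h3 u v = 0 →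
    ∃ a : Fin 4, fits a u = true ∧ fits a v = true := by decide +kernel

/-- A block with orthonormal columns is a frame times a monomial matrix. -/
theorem frame_of_block {A : Fin 3 → Fin 3 → K} (h : ∀ k l, ∑ i, A i k * A i l ^ 2 = if k = l then 1 else 0) :
    ∃ a : Fin 4, ∀ k i l, (∑ j, fr a j i ^ 2 * A j k) ≠ 0 → (∑ j, fr a j l ^ 2 * A j k) ≠ 0 → i = l := by
  let col : Fin 3 → K × K × K := fun k => (A 0 k, A 1 k, A 2 k)
  have hh : ∀ k l, h3 (col k) (col l) = if k = l then 1 else 0 := fun k l => by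
    rw [← h k l, Fin.sum_univ_three]
    simp only [h3, col, addK_eq, mulK_eq, cjK_eq]
  obtain ⟨a, ha0, ha1⟩ := frame_cover (col 0) (col 1) (by rw [hh, if_pos rfl]) (by rw [hh, if_pos rfl])
    (by rw [hh, if_neg (by decide)])
  obtain ⟨b, hb0, hb2⟩ := frame_cover (col 0) (col 2) (by rw [hh, if_pos rfl]) (by rw [hh, if_pos rfl])
    (by rw [hh, if_neg (by decide)])
  obtain rfl := frame_unique (col 0) (by rw [hh, if_pos rfl]) a b ha0 hb0
  have hall : ∀ k, fits a (col k) = true := fun k => by fin_cases k <;> assumption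
  refine ⟨a, fun k i l hi hl => ?_⟩
  have hz : ∀ c : K, beqK c .o = true → c = 0 := fun c e => beqK_eq _ _ e
  have hf := hall k
  simp only [fits, List.all_eq_true, List.mem_finRange, forall_const, Bool.or_eq_true, beq_iff_eq] at hf
  simp only [Fin.sum_univ_three, ← cjK_eq] at hi hl
  rcases hf i l with (e | e) | e
  · exact e
  · exact absurd (hz _ e) hi
  · exact absurd (hz _ e) hl

theorem sum_split (f : Fin 6 → K) : ∑ i, f i = (∑ t, f (lo t)) + ∑ t, f (hi t) := Fin.sum_univ_add (a := 3) (b := 3) f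

theorem lo_lt (t : Fin 3) : ((lo t : Fin 6) : ℕ) < 3 := t.2

theorem hi_ge (t : Fin 3) : ¬((hi t : Fin 6) : ℕ) < 3 := by simp [hi]

theorem lo_or_hi : ∀ i : Fin 6, (∃ t, i = lo t) ∨ ∃ t, i = hi t := by decide +kernel

theorem blk_lo (a b : Fin 4) (i k : Fin 3) :
    mat6 (blkM a b) (lo i) (lo k) = fr a i k ∧ mat6 (blkM a b) (hi i) (lo k) = 0 ∧
      mat6 (blkM a b) (lo i) (hi k) = 0 ∧ mat6 (blkM a b) (hi i) (hi k) = fr b i k := by
  simp only [blkM, mat6_ofF, lo, hi]
  refine ⟨?_, ?_, ?_, ?_⟩ <;> simp only [Fin.addCases_left, Fin.addCases_right] <;> rfl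

/-- Elements generating a candidate. -/
theorem cand_or_tau {H : Subgroup Γ} (hH : Half H) {g : Γ} (hgH : g ∈ H) (hg : g ∉ Nm)
    (hb : ∀ i k : Fin 6, gm g i k ≠ 0 → ((i : ℕ) < 3 ↔ (k : ℕ) < 3)) : ∃ i : Fin 3, elN (gensC.getD i.val 0) ∈ H := by
  have hzero : ∀ i k : Fin 6, ¬((i : ℕ) < 3 ↔ (k : ℕ) < 3) → gm g i k = 0 := fun i k h => by
    by_contra hne
    exact h (hb i k hne)
  have hu : ∀ k l, ∑ i, gm g i k * gm g i l ^ 2 = if k = l then 1 else 0 := fun k l => by
    have := congrFun (congrFun (unitary g) k) l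
    simpa [Matrix.mul_apply, Matrix.one_apply] using this
  obtain ⟨a, ha⟩ := frame_of_block (A := fun i k => gm g (lo i) (lo k)) fun k l => by
    have := hu (lo k) (lo l)
    rw [sum_split, show (∑ t, gm g (hi t) (lo k) * gm g (hi t) (lo l) ^ 2) = 0 from Finset.sum_eq_zero fun t _ => by
      rw [hzero (hi t) (lo k) (fun e => hi_ge t (e.mpr (lo_lt k))), zero_mul], add_zero] at this
    rw [this]
    exact if_congr (Fin.castAdd_inj (n := 3)) rfl rfl
  obtain ⟨b, hb'⟩ := frame_of_block (A := fun i k => gm g (hi i) (hi k)) fun k l => by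
    have := hu (hi k) (hi l)
    rw [sum_split, show (∑ t, gm g (lo t) (hi k) * gm g (lo t) (hi l) ^ 2) = 0 from Finset.sum_eq_zero fun t _ => by
      rw [hzero (lo t) (hi k) (fun e => hi_ge k (e.mp (lo_lt t))), zero_mul], zero_add] at this
    rw [this]
    exact if_congr (Fin.natAdd_inj 3 (n := 3)) rfl rfl
  have hall := List.all_eq_true.mp (List.all_eq_true.mp blk_ok a (List.mem_finRange a)) b (List.mem_finRange b)
  simp only [Bool.and_eq_true, Bool.or_eq_true] at hall
  obtain ⟨hok, hall⟩ := hall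
  set h : Γ := el (blkM a b) with hh
  have hgh : gm h = mat6 (blkM a b) := gm_el hok
  have hn : h⁻¹ * g ∈ Nm := by
    suffices (h⁻¹ * g)⁻¹ ∈ Nm by simpa using inv_mem this
    refine mem_Nm_of_rows fun k i l hi' hl' => ?_
    rw [gm_inv, Matrix.transpose_apply, Matrix.map_apply] at hi' hl'
    have hent : ∀ i k : Fin 6, gm (h⁻¹ * g) i k = ∑ j, mat6 (blkM a b) j i ^ 2 * gm g j k := fun i k => by
      rw [gm_mul, Matrix.mul_apply]
      simp only [gm_inv, hgh, Matrix.transpose_apply, Matrix.map_apply]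
    replace hi' : gm (h⁻¹ * g) i k ≠ 0 := fun e => hi' (by rw [e, zero_pow two_ne_zero])
    replace hl' : gm (h⁻¹ * g) l k ≠ 0 := fun e => hl' (by rw [e, zero_pow two_ne_zero])
    rw [hent] at hi' hl'
    rcases lo_or_hi k with ⟨k, rfl⟩ | ⟨k, rfl⟩
    · have hj : ∀ i : Fin 6, (∑ j, mat6 (blkM a b) j i ^ 2 * gm g j (lo k)) =
          ∑ t, mat6 (blkM a b) (lo t) i ^ 2 * gm g (lo t) (lo k) := fun i => by
        rw [sum_split, show (∑ t, mat6 (blkM a b) (hi t) i ^ 2 * gm g (hi t) (lo k)) = 0 from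
          Finset.sum_eq_zero fun t _ => by
            rw [hzero (hi t) (lo k) (fun e => hi_ge t (e.mpr (lo_lt k))), mul_zero], add_zero]
      rw [hj] at hi' hl'
      rcases lo_or_hi i with ⟨i, rfl⟩ | ⟨i, rfl⟩
      · rcases lo_or_hi l with ⟨l, rfl⟩ | ⟨l, rfl⟩
        · simp only [(blk_lo a b _ _).1] at hi' hl'
          rw [ha k i l hi' hl']
        · simp [(blk_lo a b _ _).2.2.1] at hl'
      · simp [(blk_lo a b _ _).2.2.1] at hi'
    · have hj : ∀ i : Fin 6, (∑ j, mat6 (blkM a b) j i ^ 2 * gm g j (hi k)) =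
          ∑ t, mat6 (blkM a b) (hi t) i ^ 2 * gm g (hi t) (hi k) := fun i => by
        rw [sum_split, show (∑ t, mat6 (blkM a b) (lo t) i ^ 2 * gm g (lo t) (hi k)) = 0 from
          Finset.sum_eq_zero fun t _ => by
            rw [hzero (lo t) (hi k) (fun e => hi_ge k (e.mp (lo_lt t))), mul_zero], zero_add]
      rw [hj] at hi' hl'
      rcases lo_or_hi i with ⟨i, rfl⟩ | ⟨i, rfl⟩
      · simp [(blk_lo a b _ _).2.1] at hi'
      · rcases lo_or_hi l with ⟨l, rfl⟩ | ⟨l, rfl⟩
        · simp [(blk_lo a b _ _).2.1] at hl'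
        · simp only [(blk_lo a b _ _).2.2.2] at hi' hl'
          rw [hb' k i l hi' hl']
  rcases hall with ⟨-, e⟩ | ⟨h1, h2⟩
  · refine absurd ?_ hg
    rwa [show h = 1 from gm_inj (by rw [hgh, of_beqM e, mat6_one, gm_one]), inv_one, one_mul] at hn
  · -- a candidate lies in the subgroup
    obtain ⟨x, hx, hxH⟩ : ∃ x ∈ cands, elN x.1 ∈ H := by
      have hokx : ∀ x ∈ cands, okM (ofN x.1) = true := fun x hx =>
        List.all_eq_true.mp okCands.1 _ (List.mem_map_of_mem hx)
      rw [List.any_eq_true] at h1 h2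
      rcases mem_or_tau_mul hH hn with hm | hm
      · obtain ⟨x, hx, e⟩ := h1
        refine ⟨x, hx, ?_⟩
        rw [show elN x.1 = h from gm_inj (by rw [gm_elN (hokx x hx), of_beqM e, hgh])]
        have := mul_mem hgH (inv_mem hm)
        rwa [_root_.mul_inv_rev, inv_inv, mul_inv_cancel_left] at this
      · obtain ⟨x, hx, e⟩ := h2
        refine ⟨x, hx, ?_⟩
        rw [show elN x.1 = h * tau from gm_inj (by rw [gm_elN (hokx x hx), of_beqM e, gm_mul, hgh, gm_tau, mat6_mul])]
        have := mul_mem hgH (inv_mem hm)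
        rwa [_root_.mul_inv_rev, _root_.mul_inv_rev, inv_inv, ← mul_assoc, mul_inv_cancel_left,
          show tau⁻¹ = tau from inv_eq_of_mul_eq_one_right tau_sq] at this
    have hw := List.all_eq_true.mp cands_ok x hx
    rw [Bool.and_eq_true, Nat.blt_eq] at hw
    have hokM : okL (gensM ++ [x.1]) = true := by
      simp only [okL, List.all_eq_true, List.mem_append, List.mem_singleton]
      rintro n (hn | rfl)
      · exact List.all_eq_true.mp okMC.1 n hn
      · exact List.all_eq_true.mp okCands.1 _ (List.mem_map_of_mem hx)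
    have hlen : targets.length = 4 := by rw [targets, List.length_append, okMC.2.2.2]; rfl
    have hokt : okM (ofN (targets.getD x.2.1 0)) = true := by
      rw [List.getD_eq_getElem _ _ (hlen ▸ hw.1)]
      exact List.all_eq_true.mp okMC.2.2.1 _ (List.getElem_mem _)
    have hmem := mem_of_wordOK (H := H) hokM (fun n hn => by
      rcases List.mem_append.mp hn with hn | hn
      · have hb := List.all_eq_true.mp monM n hn
        rw [Bool.and_eq_true] at hb
        have hgn := gm_elN (List.all_eq_true.mp okMC.1 n hn)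
        refine cube_mem hH ((mem_Nm_iff hgn).mpr hb.1) (gm_inj ?_)
        rw [pow_three, gm_mul, gm_mul, hgn, ← mat6_mul, ← mat6_mul, of_beqM hb.2, mat6_one, gm_one]
      · rwa [List.mem_singleton.mp hn]) hokt hw.2
    rcases Nat.lt_or_ge x.2.1 3 with hlt | hge
    · refine ⟨⟨x.2.1, hlt⟩, ?_⟩
      rwa [targets, List.getD_append _ _ _ _ (okMC.2.2.2 ▸ hlt)] at hmem
    · obtain h3 : x.2.1 = 3 := by omega
      rw [h3, targets, List.getD_append_right _ _ _ _ (by rw [okMC.2.2.2]), okMC.2.2.2] at hmem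
      exact absurd (elN_tau ▸ hmem) (tau_not_mem hH)

end CfsgLib.SUSixSub
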