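/-
The three classes of subgroups 3.U4(3) of SU6(2).
-/
import Cfsg.Agent.Lib.SUSixSub.Candidates
import Cfsg.Agent.Lib.SUShort.Counts
import Cfsg.Agent.S0280

set_option autoImplicit false
set_option maxRecDepth 30000
set_option maxHeartbeats 1000000
set_option linter.style.haveILetI false

namespace CfsgLib.SUSixSub

open Matrix CfsgLib.G24 Equiv Subgroup

attribute [local irreducible] gensA gensC gensM tauN frameH cands wordsA wordsT wordsCC

theorem card_Gamma : Nat.card Γ = 27590492160 := by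
  have hK : Fintype.card K = 2 ^ 2 := by rw [K.card_eq]; norm_num
  have h := Cfsg.Agent.S0280.result hK 6 (by norm_num)
  have hc := Cfsg.Agent.S0280.center_card hK 6 (by norm_num)
  rw [show Nat.gcd 6 (2 + 1) = 3 from rfl] at h hc
  rw [Subgroup.card_eq_card_quotient_mul_card_subgroup (center Γ), hc]
  norm_num [Finset.prod_range_succ, Nat.even_iff] at h ⊢
  show Nat.card (Cfsg.PSU 6 K 2) * 3 = _
  linarith

theorem gm_smul_central {g : Γ} {c : K} (h : gm g = c • 1) : g ∈ center Γ := by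
  rw [mem_center_iff]
  intro x
  refine gm_inj ?_
  rw [gm_mul, gm_mul, h, Matrix.smul_mul, Matrix.one_mul, Matrix.mul_smul, Matrix.mul_one]

theorem Zs_central : Zs ≤ center Γ := zpowers_le.mpr (gm_smul_central gm_om)

/-- A triple cover of PSU4(3) inside the group. -/
def IsCover (H : Subgroup Γ) : Prop := Nat.card (center H) = 3 ∧ Nonempty (↥H ⧸ center H ≃* SmallU)

theorem center_map_equiv {G G' : Type*} [Group G] [Group G'] (e : G ≃* G') :
    (center G).map e.toMonoidHom = center G' := by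
  ext y
  obtain ⟨x, rfl⟩ := e.surjective y
  show e.toMonoidHom x ∈ _ ↔ e x ∈ _
  rw [Subgroup.mem_map_iff_mem (f := e.toMonoidHom) e.injective, mem_center_iff, mem_center_iff]
  refine ⟨fun h y => ?_, fun h z => e.injective (by rw [map_mul, map_mul]; exact h (e z))⟩
  obtain ⟨z, rfl⟩ := e.surjective y
  show e z * e x = e x * e z
  rw [← map_mul, ← map_mul, h z]

theorem IsCover.map {H : Subgroup Γ} (h : IsCover H) (f : Γ →* Γ) (hf : Function.Injective f) : IsCover (H.map f) := by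
  let e := H.equivMapOfInjective f hf
  obtain ⟨h1, ⟨e2⟩⟩ := h
  refine ⟨?_, ⟨(QuotientGroup.congr (center H) (center (H.map f)) e (center_map_equiv e)).symm.trans e2⟩⟩
  rw [← center_map_equiv e, ← Nat.card_congr ((center H).equivMapOfInjective e.toMonoidHom e.injective).toEquiv, h1]

theorem IsCover.card {H : Subgroup Γ} (h : IsCover H) : Nat.card H = 9797760 := by
  rw [Subgroup.card_eq_card_quotient_mul_card_subgroup (center H), h.1, Nat.card_congr h.2.some.toEquiv, small_u_card]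

theorem sylow_facts : (27590492160 : ℕ).factorization 3 = 7 ∧ (9797760 : ℕ).factorization 3 = 7 ∧
    (3265920 : ℕ).factorization 3 = 6 := by
  haveI : Fact (Nat.Prime 3) := ⟨Nat.prime_three⟩
  refine ⟨?_, ?_, ?_⟩
  · rw [show (27590492160 : ℕ) = 3 ^ 7 * 12615680 by norm_num, Nat.factorization_mul (by norm_num) (by norm_num),
      Finsupp.add_apply, Nat.Prime.factorization_pow Nat.prime_three, Finsupp.single_eq_same,
      Nat.factorization_eq_zero_of_not_dvd (by norm_num)]
  · rw [show (9797760 : ℕ) = 3 ^ 7 * 4480 by norm_num, Nat.factorization_mul (by norm_num) (by norm_num),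
      Finsupp.add_apply, Nat.Prime.factorization_pow Nat.prime_three, Finsupp.single_eq_same,
      Nat.factorization_eq_zero_of_not_dvd (by norm_num)]
  · rw [show (3265920 : ℕ) = 3 ^ 6 * 4480 by norm_num, Nat.factorization_mul (by norm_num) (by norm_num),
      Finsupp.add_apply, Nat.Prime.factorization_pow Nat.prime_three, Finsupp.single_eq_same,
      Nat.factorization_eq_zero_of_not_dvd (by norm_num)]

theorem card_P0_H {H : Subgroup Γ} (h : P0 ≤ H) : Nat.card (P0.subgroupOf H) = 2187 := by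
  rw [Nat.card_congr (subgroupOfEquivOfLe h).toEquiv, card_P0]

/-- A subgroup of order 2187 is carried to the standard one. -/
theorem conj_to_P0 {Q : Subgroup Γ} (hQ : Nat.card Q = 2187) :
    ∃ g : Γ, Q.map (MulAut.conj g).toMonoidHom = P0 := by
  haveI : Fact (Nat.Prime 3) := ⟨Nat.prime_three⟩
  have h3 : 3 ^ (Nat.card Γ).factorization 3 = 2187 := by
    rw [card_Gamma, sylow_facts.1]; norm_num
  let S1 : Sylow 3 Γ := Sylow.ofCard Q (hQ.trans h3.symm)
  let S2 : Sylow 3 Γ := Sylow.ofCard P0 (card_P0.trans h3.symm)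
  obtain ⟨g, hg⟩ := MulAction.exists_smul_eq Γ S1 S2
  refine ⟨g, ?_⟩
  have h1 := congrArg (fun S : Sylow 3 Γ => (S : Subgroup Γ)) hg
  simp only [Sylow.coe_subgroup_smul] at h1
  exact h1

theorem IsCover.exists_conj {H : Subgroup Γ} (h : IsCover H) :
    ∃ g : Γ, P0 ≤ H.map (MulAut.conj g).toMonoidHom := by
  haveI : Fact (Nat.Prime 3) := ⟨Nat.prime_three⟩
  obtain ⟨Q, hQ⟩ : ∃ Q : Subgroup H, Nat.card Q = 2187 :=
    Sylow.exists_subgroup_card_pow_prime 3 (n := 7) (by rw [h.card]; norm_num)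
  obtain ⟨g, hg⟩ := conj_to_P0 (Q := Q.map H.subtype)
    (by rw [Subgroup.card_map_of_injective H.subtype_injective, hQ])
  exact ⟨g, hg ▸ Subgroup.map_mono (map_subtype_le _)⟩

theorem IsCover.exists_rho {H : Subgroup Γ} (h : IsCover H) (hP : P0 ≤ H) : Nonempty (Rho H) := by
  haveI : Fact (Nat.Prime 3) := ⟨Nat.prime_three⟩
  have hZ : Zs ≤ H := (Zs_le_Dg.trans (Dg_le _)).trans hP
  have hcen : center H = Zs.subgroupOf H := by
    refine (Subgroup.eq_of_le_of_card_ge (fun x hx => ?_) ?_).symm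
    · refine mem_center_iff.mpr fun y => Subtype.ext ?_
      exact mem_center_iff.mp (Zs_central hx) y.1
    · rw [h.1, Nat.card_congr (subgroupOfEquivOfLe hZ).toEquiv, card_Zs]
  let r : H →* SmallU := h.2.some.toMonoidHom.comp (QuotientGroup.mk' (center H))
  have hr : Function.Surjective r := h.2.some.surjective.comp (QuotientGroup.mk'_surjective _)
  have hker : r.ker = Zs.subgroupOf H := by
    rw [← hcen]
    ext x
    rw [MonoidHom.mem_ker, MonoidHom.comp_apply]
    exact (map_eq_one_iff _ h.2.some.injective).trans (QuotientGroup.eq_one_iff x)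
  have himg : ∀ {H : Subgroup Γ} (hP : P0 ≤ H) (r : H →* SmallU), r.ker = Zs.subgroupOf H →
      Nat.card ((P0.subgroupOf H).map r) = 729 := by
    intro H hP r hker
    have hm := (r.comp (P0.subgroupOf H).subtype).ker.card_mul_index
    rw [index_ker, MonoidHom.range_comp, Subgroup.range_subtype, card_P0_H hP] at hm
    have hk : Nat.card (r.comp (P0.subgroupOf H).subtype).ker = 3 := by
      rw [← card_Zs]
      refine Nat.card_congr ⟨fun x => ⟨x.1.1.1, ?_⟩, fun x => ⟨⟨⟨x.1, hP (Dg_le _ (Zs_le_Dg x.2))⟩, Dg_le _ (Zs_le_Dg x.2)⟩, ?_⟩,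
        fun _ => rfl, fun _ => rfl⟩
      · have := x.2
        rw [MonoidHom.mem_ker, MonoidHom.comp_apply, ← MonoidHom.mem_ker, hker] at this
        exact this
      · rw [MonoidHom.mem_ker, MonoidHom.comp_apply, ← MonoidHom.mem_ker, hker]
        exact x.2
    rw [hk] at hm
    omega
  have hk0 : pi0.ker = Zs.subgroupOf K0 := by
    ext x
    exact mem_ker_iff rho0 x
  have h6 : 3 ^ (Nat.card SmallU).factorization 3 = 729 := by
    rw [small_u_card, sylow_facts.2.2]; norm_num
  let S1 : Sylow 3 SmallU := Sylow.ofCard _ ((himg hP r hker).trans h6.symm)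
  let S2 : Sylow 3 SmallU := Sylow.ofCard _ ((himg (P0_le half_K0) pi0 hk0).trans h6.symm)
  obtain ⟨g, hg⟩ := MulAction.exists_smul_eq SmallU S1 S2
  have h1 := congrArg (fun S : Sylow 3 SmallU => (S : Subgroup SmallU)) hg
  simp only [Sylow.coe_subgroup_smul] at h1
  refine ⟨⟨(MulAut.conj g).toMonoidHom.comp r, (MulAut.conj g).surjective.comp hr, ?_, hP, ?_⟩⟩
  · rw [show ((MulAut.conj g).toMonoidHom.comp r).ker = r.ker from Subgroup.ext fun x => by
      rw [MonoidHom.mem_ker, MonoidHom.mem_ker, MonoidHom.comp_apply]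
      exact map_eq_one_iff _ (MulAut.conj g).injective]
    rw [hker, Subgroup.map_subgroupOf_eq_of_le hZ]
  · rw [← Subgroup.map_map]
    exact h1

theorem IsCover.half {H : Subgroup Γ} (h : IsCover H) (hP : P0 ≤ H) : Half H :=
  half_of_rho (h.exists_rho hP).some

theorem center_K0 : center K0 = Zs.subgroupOf K0 := by
  refine le_antisymm (fun x hx => ?_) fun x hx => mem_center_iff.mpr fun y => Subtype.ext
    (mem_center_iff.mp (Zs_central hx) y.1)
  have hc : ∀ y ∈ K0, y * (x : Γ) = (x : Γ) * y := fun y hy => congrArg Subtype.val (mem_center_iff.mp hx ⟨y, hy⟩)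
  have hD : (x : Γ) ∈ Dg := by
    have hN : (x : Γ) ∈ Nm := normaliser_Dg fun d hd => by
      rwa [← hc d (diag_mem half_K0 hd), mul_inv_cancel_right]
    obtain ⟨l, p, -, e⟩ := exists_monoEl hN
    suffices p = 1 by rw [e, this]; exact monoEl_mem (one_mem _) _
    refine Equiv.ext fun k => ?_
    by_contra hne
    obtain ⟨u, hu⟩ := sep_l6 k (p k) (fun h => hne h.symm)
    have h2 := congrArg gm (hc _ (diag_mem half_K0 (monoEl_mem (one_mem _) (Pi.single u 1))))
    rw [gm_mul, gm_mul, e, gm_monoEl, gm_monoEl, monoF_diag] at h2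
    have h3 := congrFun (congrFun h2 (p k)) k
    rw [Matrix.mul_diagonal, Matrix.diagonal_mul] at h3
    simp only [monoF, if_true] at h3
    rw [mul_comm] at h3
    exact hu (wp_inj _ _ (mul_left_cancel₀ ((mono_facts (gm_monoEl l p)).2 _) h3).symm)
  obtain ⟨l, p, hp, e⟩ := exists_monoEl hD
  obtain rfl := Subgroup.mem_bot.mp hp
  have hcyc : ∀ p : Perm (Fin 6), p ^ 3 = 1 → ∀ k, l6 l (p k) = l6 l k := by
    intro p hp k
    have h2 := congrArg gm (hc _ (cube_mem half_K0 (permEl_mem (mem_top p)) (by rw [← map_pow, hp, map_one])))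
    rw [gm_mul, gm_mul, e, gm_permEl, gm_monoEl, monoF_diag] at h2
    have h3 := congrFun (congrFun h2 (p k)) k
    rw [Matrix.mul_diagonal, Matrix.diagonal_mul] at h3
    simp only [monoF, if_true, Pi.one_apply, one_mul, mul_one] at h3
    exact (wp_inj _ _ h3).symm
  have hall : ∀ i, l6 l i = l6 l 0 := by
    have h1 := hcyc c[(0 : Fin 6), 1, 2] (by decide +kernel)
    have h2 := hcyc c[(1 : Fin 6), 2, 3] (by decide +kernel)
    have h3 := hcyc c[(3 : Fin 6), 4, 5] (by decide +kernel)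
    intro i
    have a0 := h1 0
    have a1 := h1 1
    have a2 := h2 2
    have a3 := h3 3
    have a4 := h3 4
    rw [show c[(0 : Fin 6), 1, 2] 0 = 1 by decide +kernel] at a0
    rw [show c[(0 : Fin 6), 1, 2] 1 = 2 by decide +kernel] at a1
    rw [show c[(1 : Fin 6), 2, 3] 2 = 3 by decide +kernel] at a2
    rw [show c[(3 : Fin 6), 4, 5] 3 = 4 by decide +kernel] at a3
    rw [show c[(3 : Fin 6), 4, 5] 4 = 5 by decide +kernel] at a4
    fin_cases i
    · rfl
    · exact a0
    · exact a1.trans a0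
    · exact a2.trans (a1.trans a0)
    · exact a3.trans (a2.trans (a1.trans a0))
    · exact a4.trans (a3.trans (a2.trans (a1.trans a0)))
  refine Subgroup.mem_zpowers_iff.mpr ⟨((l6 l 0).val : ℕ), ?_⟩
  rw [zpow_natCast]
  refine gm_inj ?_
  have hpw : ∀ a : Fin 3, gm (om ^ a.val) = wp a • (1 : Matrix (Fin 6) (Fin 6) K) := by
    intro a
    fin_cases a
    · simp only [pow_zero, gm_one]; exact (one_smul _ _).symm
    · simp only [pow_one]; exact gm_om
    · rw [pow_two, gm_mul, gm_om, Matrix.smul_mul, Matrix.one_mul, smul_smul]; rfl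
  rw [hpw, Matrix.smul_one_eq_diagonal]
  refine Eq.trans ?_ ((congrArg gm e).trans ((gm_monoEl l 1).trans (monoF_diag _))).symm
  congr 1
  funext i
  exact congrArg wp (hall i).symm

theorem cover_K0 : IsCover K0 := by
  have hk : pi0.ker = center K0 := by
    rw [center_K0]
    ext x
    exact mem_ker_iff rho0 x
  refine ⟨?_, ⟨(QuotientGroup.quotientMulEquivOfEq hk.symm).trans
    (QuotientGroup.quotientKerEquivOfSurjective pi0 pi0_surjective)⟩⟩
  rw [← hk]
  exact ker_card rho0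

/-- The outer diagonal matrix. -/
def dd : Fin 6 → K := ![K.i, K.i, K.i, K.i, K.i, K.w]

theorem dd_facts : (∀ i, dd i * dd i ^ 2 = 1) ∧ ∏ i, dd i = K.w := by
  refine ⟨by decide +kernel, ?_⟩
  rw [Fin.prod_univ_six]
  rfl

theorem exists_psi (g : Γ) : ∃ h : Γ, gm h = Matrix.diagonal dd * gm g * Matrix.diagonal fun i => dd i ^ 2 := by
  haveI : Fact (Nat.Prime 2) := ⟨Nat.prime_two⟩
  haveI : CharP K 2 := charP_of_card_eq_prime_pow (f := 2) (by rw [K.card_eq]; norm_num)
  have hd : (Matrix.diagonal dd * gm g * Matrix.diagonal fun i => dd i ^ 2).det = 1 := by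
    rw [Matrix.det_mul, Matrix.det_mul, Matrix.det_diagonal, Matrix.det_diagonal, show (gm g).det = 1 from g.1.2,
      mul_one, ← Finset.prod_mul_distrib]
    simp [dd_facts.1]
  have hmap : ∀ A B : Matrix (Fin 6) (Fin 6) K, (A * B).map (· ^ 2) = A.map (· ^ 2) * B.map (· ^ 2) := fun A B =>
    Matrix.map_mul (f := frobenius K 2)
  have hdm : ∀ v : Fin 6 → K, (Matrix.diagonal v).map (· ^ 2) = Matrix.diagonal fun i => v i ^ 2 := fun v =>
    Matrix.diagonal_map (f := fun x : K => x ^ 2) (zero_pow two_ne_zero)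
  have hu : (Matrix.diagonal dd * gm g * Matrix.diagonal fun i => dd i ^ 2)ᵀ *
      (Matrix.diagonal dd * gm g * Matrix.diagonal fun i => dd i ^ 2).map (· ^ 2) = 1 := by
    rw [hmap, hmap, hdm, hdm, Matrix.transpose_mul, Matrix.transpose_mul, Matrix.diagonal_transpose,
      Matrix.diagonal_transpose]
    have h1 : Matrix.diagonal dd * Matrix.diagonal (fun i => dd i ^ 2) = 1 := by
      rw [Matrix.diagonal_mul_diagonal, ← Matrix.diagonal_one]; congr 1; funext i; exact dd_facts.1 i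
    have h2 : Matrix.diagonal (fun i => dd i ^ 2) * Matrix.diagonal (fun i => (dd i ^ 2) ^ 2) = 1 := by
      rw [Matrix.diagonal_mul_diagonal, ← Matrix.diagonal_one]; congr 1; funext i
      rw [← mul_pow, dd_facts.1 i, one_pow]
    calc _ = Matrix.diagonal (fun i => dd i ^ 2) * ((gm g)ᵀ * (Matrix.diagonal dd * Matrix.diagonal fun i => dd i ^ 2) *
          (gm g).map (· ^ 2)) * Matrix.diagonal (fun i => (dd i ^ 2) ^ 2) := by simp only [Matrix.mul_assoc]
      _ = 1 := by rw [h1, Matrix.mul_one, unitary, Matrix.mul_one, h2]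
  exact ⟨⟨⟨_, hd⟩, fun u v => preserves hu u v⟩, rfl⟩

/-- The image under the diagonal automorphism. -/
noncomputable def psiF (g : Γ) : Γ := (exists_psi g).choose

theorem gm_psiF (g : Γ) : gm (psiF g) = Matrix.diagonal dd * gm g * Matrix.diagonal fun i => dd i ^ 2 :=
  (exists_psi g).choose_spec

/-- The diagonal automorphism. -/
noncomputable def psi : Γ →* Γ :=
  MonoidHom.mk' psiF fun a b => gm_inj (by
    rw [gm_mul, gm_psiF, gm_psiF, gm_psiF, gm_mul]
    have h2 : Matrix.diagonal (fun i => dd i ^ 2) * Matrix.diagonal dd = 1 := by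
      rw [Matrix.diagonal_mul_diagonal, ← Matrix.diagonal_one]; congr 1; funext i
      rw [mul_comm]; exact dd_facts.1 i
    simp only [Matrix.mul_assoc]
    rw [← Matrix.mul_assoc (Matrix.diagonal fun i => dd i ^ 2) (Matrix.diagonal dd), h2, Matrix.one_mul])

theorem gm_psi (g : Γ) : gm (psi g) = Matrix.diagonal dd * gm g * Matrix.diagonal fun i => dd i ^ 2 :=
  gm_psiF g

theorem psi_injective : Function.Injective psi := (injective_iff_map_eq_one _).mpr fun g hg => gm_inj (by
  have h := congrArg gm hg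
  rw [gm_psi, gm_one] at h
  have h1 : Matrix.diagonal dd * Matrix.diagonal (fun i => dd i ^ 2) = 1 := by
    rw [Matrix.diagonal_mul_diagonal, ← Matrix.diagonal_one]; congr 1; funext i; exact dd_facts.1 i
  have h2 : Matrix.diagonal (fun i => dd i ^ 2) * Matrix.diagonal dd = 1 := mul_eq_one_comm.mp h1
  calc gm g = Matrix.diagonal (fun i => dd i ^ 2) * (Matrix.diagonal dd * gm g * Matrix.diagonal fun i => dd i ^ 2) *
        Matrix.diagonal dd := by
        simp only [Matrix.mul_assoc]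
        rw [h2, Matrix.mul_one, ← Matrix.mul_assoc, h2, Matrix.one_mul]
    _ = gm 1 := by rw [h, Matrix.mul_one, h2, gm_one])

theorem psi_mono {A : Subgroup (Perm (Fin 6))} {g : Γ} (h : g ∈ monoSub A) : psi g ∈ monoSub A := by
  obtain ⟨d, p, hp, e⟩ := h
  refine ⟨fun i => dd i * d i * dd (p.symm i) ^ 2, p, hp, ?_⟩
  rw [gm_psi, e, ← monoF_diag, ← monoF_diag, monoF_mul, monoF_mul, one_mul, mul_one]
  rfl

/-- The three subgroups. -/
noncomputable def Ki : ℕ → Subgroup Γ
  | 0 => K0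
  | i + 1 => (Ki i).map psi

theorem cover_Ki : ∀ i, IsCover (Ki i)
  | 0 => cover_K0
  | i + 1 => (cover_Ki i).map psi psi_injective

theorem P0_le_Ki : ∀ i, P0 ≤ Ki i
  | 0 => P0_le half_K0
  | i + 1 => by
    have h : P0.map psi = P0 := Subgroup.eq_of_le_of_card_ge
      (by rintro _ ⟨g, hg, rfl⟩; exact psi_mono hg) (by rw [Subgroup.card_map_of_injective psi_injective])
    exact h ▸ Subgroup.map_mono (P0_le_Ki i)

theorem half_Ki (i : ℕ) : Half (Ki i) := (cover_Ki i).half (P0_le_Ki i)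

/-- A further element. -/
noncomputable def ci (i : ℕ) : Γ := elN (gensC.getD i 0)

theorem gm_ci (i : Fin 3) : gm (ci i.val) = mat6 (ofN (gensC.getD i.val 0)) := gm_elN (okC i)

theorem psi_ci : ∀ i : ℕ, i < 2 → psi (ci i) = ci (i + 1) := by
  have h : ((List.range 2).all fun i => beqM (mulM (ofF fun a b => if a = b then dd a else .o)
      (mulM (ofN (gensC.getD i 0)) (ofF fun a b => if a = b then cjK (dd a) else .o))) (ofN (gensC.getD (i + 1) 0))) = true := by
    decide +kernel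
  intro i hi
  refine gm_inj ?_
  have e := of_beqM (List.all_eq_true.mp h i (List.mem_range.mpr hi))
  have hD : ∀ f : Fin 6 → K, mat6 (ofF fun a b => if a = b then f a else .o) = Matrix.diagonal f := fun f => by
    ext a b
    rw [mat6_ofF, Matrix.diagonal_apply]
    rfl
  rw [gm_psi, gm_ci ⟨i, by omega⟩, gm_ci ⟨i + 1, by omega⟩, ← e, mat6_mul, mat6_mul, hD, hD, Matrix.mul_assoc]
  simp only [cjK_eq]

theorem ci_mem : ∀ i : ℕ, i < 3 → ci i ∈ Ki i
  | 0, _ => c0_mem
  | i + 1, h => psi_ci i (by omega) ▸ ⟨_, ci_mem i (by omega), rfl⟩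

theorem cubes_gensM : ∀ {H : Subgroup Γ}, (∀ n ∈ Nm, n ^ 3 = 1 → n ∈ H) → ∀ a ∈ gensM, elN a ∈ H := by
  intro H hH a ha
  have hb := List.all_eq_true.mp monM a ha
  rw [Bool.and_eq_true] at hb
  have hgn := gm_elN (List.all_eq_true.mp okMC.1 a ha)
  refine hH _ ((mem_Nm_iff hgn).mpr hb.1) (gm_inj ?_)
  rw [pow_three, gm_mul, gm_mul, hgn, ← mat6_mul, ← mat6_mul, of_beqM hb.2, mat6_one, gm_one]

theorem okW (i : Fin 3) : okL (gensM ++ [gensC.getD i.val 0]) = true := by
  simp only [okL, List.all_eq_true, List.mem_append, List.mem_singleton]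
  rintro n (hn | rfl)
  · exact List.all_eq_true.mp okMC.1 n hn
  · exact okC i

theorem Ki_le : ∀ (i : ℕ), i < 3 → ∀ {H : Subgroup Γ}, (∀ n ∈ Nm, n ^ 3 = 1 → n ∈ H) → ci i ∈ H → Ki i ≤ H
  | 0, _, H, hM, hc => by
    refine (closure_le H).mpr ?_
    rintro _ ⟨j, rfl⟩
    refine mem_of_wordOK (okW 0) (fun a ha => ?_) (okA_j j)
      (List.all_eq_true.mp wordsA_ok j.val (List.mem_range.mpr j.2))
    rcases List.mem_append.mp ha with ha | ha
    · exact cubes_gensM hM a ha
    · rwa [List.mem_singleton.mp ha]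
  | i + 1, h, H, hM, hc => by
    show (Ki i).map psi ≤ H
    rw [map_le_iff_le_comap]
    refine Ki_le i (by omega) (fun n hn h3 => hM _ (psi_mono hn) (by rw [← map_pow, h3, map_one])) ?_
    rw [mem_comap, psi_ci i (by omega)]
    exact hc

theorem classify {H : Subgroup Γ} (h : IsCover H) (hP : P0 ≤ H) : ∃ i, i < 3 ∧ H = Ki i := by
  obtain ⟨R⟩ := h.exists_rho hP
  obtain ⟨x, hx, hb⟩ := exists_block R
  obtain ⟨i, hi⟩ := cand_or_tau (half_of_rho R) x.2 hx hb
  exact ⟨i, i.2, (Subgroup.eq_of_le_of_card_ge (Ki_le i i.2 (fun n hn h3 => cube_mem (half_of_rho R) hn h3) hi)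
    (by rw [h.card, (cover_Ki i).card])).symm⟩

theorem Ki_inj {i j : ℕ} (hj : j < 3) (hij : i < j) : Ki i ≠ Ki j := by
  intro e
  have h := List.all_eq_true.mp (List.all_eq_true.mp wordsCC_ok j (List.mem_range.mpr hj)) i (List.mem_range.mpr hij)
  rw [List.any_eq_true] at h
  obtain ⟨x, -, hx⟩ := h
  simp only [Bool.and_eq_true] at hx
  refine tau_not_mem (half_Ki j) (elN_tau ▸ mem_of_wordOK ?_ (fun a ha => ?_) okT hx.2)
  · simp only [okL, List.all_eq_true, List.mem_append, List.mem_cons, List.not_mem_nil, or_false]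
    rintro n (hn | rfl | rfl)
    · exact List.all_eq_true.mp okMC.1 n hn
    · exact okC ⟨i, by omega⟩
    · exact okC ⟨j, hj⟩
  · simp only [List.mem_append, List.mem_cons, List.not_mem_nil, or_false] at ha
    rcases ha with ha | rfl | rfl
    · exact cubes_gensM (fun n hn h3 => cube_mem (half_Ki j) hn h3) a ha
    · exact e ▸ ci_mem i (by omega)
    · exact ci_mem j hj

theorem tau_conj {i : ℕ} (hi : i < 3) : (Ki i).map (MulAut.conj tau).toMonoidHom = Ki i := by
  have hinv : tau⁻¹ = tau := inv_eq_of_mul_eq_one_right tau_sq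
  have h := List.all_eq_true.mp wordsT_ok i (List.mem_range.mpr hi)
  simp only [Bool.and_eq_true] at h
  obtain ⟨⟨hok, he⟩, hw⟩ := h
  have hci : (MulAut.conj tau) (ci i) ∈ Ki i := by
    have hmem := mem_of_wordOK (H := Ki i) (okW ⟨i, hi⟩) (fun a ha => by
      rcases List.mem_append.mp ha with ha | ha
      · exact cubes_gensM (fun n hn h3 => cube_mem (half_Ki i) hn h3) a ha
      · rw [List.mem_singleton.mp ha]; exact ci_mem i hi) hok hw
    have e2 : (MulAut.conj tau) (ci i) = elN (wordsT.getD i (0, [])).1 := gm_inj (by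
      rw [gm_elN hok, ← of_beqM he, MulAut.conj_apply, hinv, mul_assoc, gm_mul, gm_mul, gm_tau,
        gm_ci ⟨i, hi⟩, mat6_mul, mat6_mul])
    rwa [e2]
  refine (Subgroup.eq_of_le_of_card_ge ?_ ?_)
  · rw [map_le_iff_le_comap]
    refine Ki_le i hi (fun n hn h3 => ?_) hci
    exact cube_mem (half_Ki i) (mul_mem (mul_mem tau_mem hn) (inv_mem tau_mem))
      (by show (MulAut.conj tau n) ^ 3 = 1; rw [← map_pow, h3, map_one])
  · exact (Subgroup.card_map_of_injective (f := (MulAut.conj tau).toMonoidHom) (MulAut.conj tau).injective).symm.le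

theorem not_conj {i j : ℕ} (hi : i < 3) (hj : j < 3) (hij : i ≠ j) :
    ¬ ∃ g : Γ, (Ki i).map (MulAut.conj g).toMonoidHom = Ki j := by
  rintro ⟨g, hg⟩
  haveI : Fact (Nat.Prime 3) := ⟨Nat.prime_three⟩
  set Q := P0.map (MulAut.conj g).toMonoidHom with hQ
  have hQj : Q ≤ Ki j := hg ▸ Subgroup.map_mono (P0_le_Ki i)
  have hQc : Nat.card Q = 2187 := by
    rw [hQ, Subgroup.card_map_of_injective (f := (MulAut.conj g).toMonoidHom) (MulAut.conj g).injective, card_P0]
  have h7 : 3 ^ (Nat.card (Ki j)).factorization 3 = 2187 := by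
    rw [(cover_Ki j).card, sylow_facts.2.1]; norm_num
  let S1 : Sylow 3 (Ki j) := Sylow.ofCard (Q.subgroupOf (Ki j))
    ((Nat.card_congr (subgroupOfEquivOfLe hQj).toEquiv).trans (hQc.trans h7.symm))
  let S2 : Sylow 3 (Ki j) := Sylow.ofCard (P0.subgroupOf (Ki j)) ((card_P0_H (P0_le_Ki j)).trans h7.symm)
  obtain ⟨k, hk⟩ := MulAction.exists_smul_eq (Ki j) S1 S2
  have hk1 := congrArg (fun S : Sylow 3 (Ki j) => (S : Subgroup (Ki j))) hk
  simp only [Sylow.coe_subgroup_smul] at hk1
  set m : Γ := (k : Γ) * g with hm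
  have hmP : ∀ x ∈ P0, m * x * m⁻¹ ∈ P0 := by
    intro x hx
    have hxQ : g * x * g⁻¹ ∈ Q := ⟨x, hx, rfl⟩
    have hxS : (⟨g * x * g⁻¹, hQj hxQ⟩ : Ki j) ∈ Q.subgroupOf (Ki j) := hxQ
    have h0 : (Q.subgroupOf (Ki j)).map (MulAut.conj k).toMonoidHom = P0.subgroupOf (Ki j) := hk1
    have h1 : (MulAut.conj k) ⟨g * x * g⁻¹, hQj hxQ⟩ ∈ P0.subgroupOf (Ki j) := by
      rw [← h0]; exact Subgroup.mem_map_of_mem _ hxS
    have h2 : (k : Γ) * (g * x * g⁻¹) * (k : Γ)⁻¹ ∈ P0 := h1
    rw [hm]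
    rwa [show (k : Γ) * g * x * ((k : Γ) * g)⁻¹ = (k : Γ) * (g * x * g⁻¹) * (k : Γ)⁻¹ by group]
  have hmN : m ∈ Nm := by
    refine normaliser_Dg fun d hd => ?_
    have hE : Dg.map (MulAut.conj m).toMonoidHom = Dg := dg_char
      (by rintro _ ⟨x, hx, rfl⟩; exact hmP x (Dg_le _ hx))
      (by rw [Subgroup.card_map_of_injective (f := (MulAut.conj m).toMonoidHom) (MulAut.conj m).injective, card_Dg])
      (by
        rintro _ ⟨x, hx, rfl⟩ _ ⟨y, hy, rfl⟩
        refine ⟨1, ?_⟩
        rw [one_smul, ← map_mul, ← map_mul]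
        obtain ⟨u, hu⟩ := mem_Dg.mp hx
        obtain ⟨v, hv⟩ := mem_Dg.mp hy
        rw [show x * y = y * x from gm_inj (by
          rw [gm_mul, gm_mul, hu, hv, Matrix.diagonal_mul_diagonal, Matrix.diagonal_mul_diagonal]
          congr 1; funext i; exact mul_comm _ _)])
    exact hE ▸ Subgroup.mem_map_of_mem (MulAut.conj m).toMonoidHom hd
  have hconj : (Ki i).map (MulAut.conj m).toMonoidHom = Ki j := by
    rw [hm, map_mul, show ((MulAut.conj (k : Γ) * MulAut.conj g : MulAut Γ)).toMonoidHom =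
      (MulAut.conj (k : Γ)).toMonoidHom.comp (MulAut.conj g).toMonoidHom from rfl, ← Subgroup.map_map, hg]
    refine Subgroup.eq_of_le_of_card_ge ?_
      (Subgroup.card_map_of_injective (f := (MulAut.conj (k : Γ)).toMonoidHom) (MulAut.conj (k : Γ)).injective).symm.le
    rintro _ ⟨x, hx, rfl⟩
    exact mul_mem (mul_mem k.2 hx) (inv_mem k.2)
  have hself : ∀ n ∈ Ki i, (Ki i).map (MulAut.conj n).toMonoidHom = Ki i := fun n hn => by
    refine Subgroup.eq_of_le_of_card_ge ?_
      (Subgroup.card_map_of_injective (f := (MulAut.conj n).toMonoidHom) (MulAut.conj n).injective).symm.le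
    rintro _ ⟨x, hx, rfl⟩
    exact mul_mem (mul_mem hn hx) (inv_mem hn)
  have he : Ki i = Ki j := by
    rcases mem_or_tau_mul (half_Ki i) hmN with h | h
    · exact (hself m h).symm.trans hconj
    · have e : MulAut.conj m = MulAut.conj tau * MulAut.conj (tau * m) := by
        rw [← map_mul, ← mul_assoc, tau_sq, one_mul]
      rw [← hconj, e, show ((MulAut.conj tau * MulAut.conj (tau * m) : MulAut Γ)).toMonoidHom =
        (MulAut.conj tau).toMonoidHom.comp (MulAut.conj (tau * m)).toMonoidHom from rfl, ← Subgroup.map_map,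
        hself _ h, tau_conj hi]
  rcases Nat.lt_or_gt_of_ne hij with h | h
  · exact Ki_inj hj h he
  · exact Ki_inj hi h he.symm

theorem classify_conj {H : Subgroup Γ} (h : IsCover H) :
    ∃ g : Γ, ∃ i, i < 3 ∧ H.map (MulAut.conj g).toMonoidHom = Ki i := by
  obtain ⟨g, hg⟩ := h.exists_conj
  obtain ⟨i, hi, e⟩ := classify (h.map _ (MulAut.conj g).injective) hg
  exact ⟨g, i, hi, e⟩

universe u v

/-- Transport of a triple cover to a subgroup of another model. -/
theorem cover_iff {G : Type u} [Group G] (θ : G ≃* Γ) {P : Type v} [Group P] (es : P ≃* SmallU) (L : Subgroup G) :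
    (Nat.card (center L) = 3 ∧ Nonempty (↥L ⧸ center L ≃* P)) ↔ IsCover (L.map θ.toMonoidHom) := by
  let e := L.equivMapOfInjective θ.toMonoidHom θ.injective
  have hq := QuotientGroup.congr (center L) (center (L.map θ.toMonoidHom)) e (center_map_equiv e)
  have hc : Nat.card (center (L.map θ.toMonoidHom)) = Nat.card (center L) := by
    rw [← center_map_equiv e]
    exact Subgroup.card_map_of_injective e.injective
  exact ⟨fun ⟨h1, ⟨f⟩⟩ => ⟨hc.trans h1, ⟨hq.symm.trans (f.trans es)⟩⟩,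
    fun ⟨h1, ⟨f⟩⟩ => ⟨hc.symm.trans h1, ⟨hq.trans (f.trans es.symm)⟩⟩⟩

/-- There are exactly three classes. -/
theorem three_classes (F : Type u) [Field F] [Fintype F] (hF : Fintype.card F = 4) (F9 : Type v) [Field F9]
    [Fintype F9] (hF9 : Fintype.card F9 = 9) :
    ∃ K₁ K₂ K₃ : Subgroup ↥(Cfsg.SU 6 F 2),
      (∀ L ∈ [K₁, K₂, K₃], Nat.card ↥(Subgroup.center ↥L) = 3 ∧
        Nonempty (↥L ⧸ Subgroup.center ↥L ≃* Cfsg.PSU 4 F9 3)) ∧
      (¬ ∃ g : ↥(Cfsg.SU 6 F 2), K₁.map (MulAut.conj g).toMonoidHom = K₂) ∧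
      (¬ ∃ g : ↥(Cfsg.SU 6 F 2), K₁.map (MulAut.conj g).toMonoidHom = K₃) ∧
      (¬ ∃ g : ↥(Cfsg.SU 6 F 2), K₂.map (MulAut.conj g).toMonoidHom = K₃) ∧
      ∀ L : Subgroup ↥(Cfsg.SU 6 F 2), Nat.card ↥(Subgroup.center ↥L) = 3 →
        Nonempty (↥L ⧸ Subgroup.center ↥L ≃* Cfsg.PSU 4 F9 3) →
        ∃ g : ↥(Cfsg.SU 6 F 2), L.map (MulAut.conj g).toMonoidHom = K₁ ∨ L.map (MulAut.conj g).toMonoidHom = K₂ ∨
          L.map (MulAut.conj g).toMonoidHom = K₃ := by
  obtain ⟨eF⟩ := G24.exists_ringEquiv F hF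
  let θ : Cfsg.SU 6 F 2 ≃* Γ := CfsgLib.SUShort.suCongr eF 6 2
  obtain ⟨es⟩ := (U43Mult.small_card hF9).2.2
  let back : ℕ → Subgroup (Cfsg.SU 6 F 2) := fun i => (Ki i).comap θ.toMonoidHom
  have hback : ∀ i, (back i).map θ.toMonoidHom = Ki i := fun i => map_comap_eq_self_of_surjective θ.surjective _
  have hconj : ∀ (g : Cfsg.SU 6 F 2) (L : Subgroup (Cfsg.SU 6 F 2)),
      (L.map (MulAut.conj g).toMonoidHom).map θ.toMonoidHom =
        (L.map θ.toMonoidHom).map (MulAut.conj (θ g)).toMonoidHom := fun g L => by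
    rw [Subgroup.map_map, Subgroup.map_map]
    congr 1
    exact MonoidHom.ext fun x => by simp
  have hne : ∀ i j, i < 3 → j < 3 → i ≠ j →
      ¬ ∃ g : ↥(Cfsg.SU 6 F 2), (back i).map (MulAut.conj g).toMonoidHom = back j := by
    rintro i j hi hj hij ⟨g, hg⟩
    refine not_conj hi hj hij ⟨θ g, ?_⟩
    rw [← hback i, ← hback j, ← hconj, hg]
  refine ⟨back 0, back 1, back 2, fun L hL => ?_, hne 0 1 (by norm_num) (by norm_num) (by norm_num),
    hne 0 2 (by norm_num) (by norm_num) (by norm_num), hne 1 2 (by norm_num) (by norm_num) (by norm_num),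
    fun L h1 h2 => ?_⟩
  · simp only [List.mem_cons, List.not_mem_nil, or_false] at hL
    rcases hL with rfl | rfl | rfl <;> exact (cover_iff θ es _).mpr (by rw [hback]; exact cover_Ki _)
  · obtain ⟨g, i, hi, e⟩ := classify_conj ((cover_iff θ es L).mp ⟨h1, h2⟩)
    have e2 : L.map (MulAut.conj (θ.symm g)).toMonoidHom = back i :=
      Subgroup.map_injective θ.injective (by rw [hconj, hback, θ.apply_symm_apply, e])
    refine ⟨θ.symm g, ?_⟩
    interval_cases i
    · exact Or.inl e2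
    · exact Or.inr (Or.inl e2)
    · exact Or.inr (Or.inr e2)

end CfsgLib.SUSixSub
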